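import Groth.Agent.FlatAdic.Basic
import Groth.Agent.EGA418Dim.EtaleAt
import Mathlib

/-!
Etaleness of a finite algebra at a maximal ideal from its truncations.
-/
set_option autoImplicit false
universe u
open TensorProduct
noncomputable section

namespace Groth.Agent.LunaEt

section Etale

variable {S R : Type u} [CommRing S] [CommRing R] [Algebra S R] [Algebra.FinitePresentation S R]
variable (m : Ideal R) [m.IsPrime] [Algebra.IsEtaleAt S m]

theorem flat_localization : Module.Flat S (Localization.AtPrime m) := by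
  obtain ⟨f, hf, he⟩ := Algebra.exists_etale_of_isEtaleAt (R := S) m
  haveI : Module.Flat S (Localization.Away f) := inferInstance
  have hle : Submonoid.powers f ≤ m.primeCompl := Submonoid.powers_le.2 hf
  letI := IsLocalization.localizationAlgebraOfSubmonoidLe (Localization.Away f) (Localization.AtPrime m) _ _ hle
  haveI := IsLocalization.localization_isScalarTower_of_submonoid_le (Localization.Away f)
    (Localization.AtPrime m) _ _ hle
  haveI := IsLocalization.isLocalization_of_submonoid_le (Localization.Away f) (Localization.AtPrime m) _ _ hle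
  haveI : IsScalarTower S (Localization.Away f) (Localization.AtPrime m) :=
    .to₁₃₄ S R (Localization.Away f) (Localization.AtPrime m)
  haveI : Module.Flat (Localization.Away f) (Localization.AtPrime m) :=
    IsLocalization.flat _ (m.primeCompl.map (algebraMap R (Localization.Away f)))
  exact Module.Flat.trans S (Localization.Away f) _

variable (p : Ideal S) (hp : m.comap (algebraMap S R) = p)

include hp in
/-- Divisibility by an ideal descends along flat local homomorphisms. -/
theorem exists_notMem_mul_mem (J : Ideal S) (a : S)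
    (h : algebraMap S (Localization.AtPrime m) a ∈ J.map (algebraMap S (Localization.AtPrime m))) :
    ∃ c ∉ p, c * a ∈ J := by
  haveI := flat_localization (S := S) m
  by_contra hc
  push Not at hc
  let C := Localization.AtPrime m
  let L : S →ₗ[S] S ⧸ J := J.mkQ ∘ₗ LinearMap.mulRight S a
  have hker : ∀ c : S, c ∈ LinearMap.ker L → c ∈ p := fun c h => by
    by_contra hcp
    exact hc c hcp ((Submodule.Quotient.mk_eq_zero J).1 h)
  have h0 : ∀ u ∈ J.map (algebraMap S C), u ⊗ₜ[S] (Submodule.Quotient.mk 1 : S ⧸ J) = 0 := by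
    intro u hu
    have : ∀ c : C, (c * u) ⊗ₜ[S] (Submodule.Quotient.mk 1 : S ⧸ J) = 0 := by
      induction hu using Submodule.span_induction with
      | mem v hv =>
        obtain ⟨j, hj, rfl⟩ := hv
        intro c
        rw [mul_comm, ← Algebra.smul_def, TensorProduct.smul_tmul, ← Submodule.Quotient.mk_smul,
          smul_eq_mul, mul_one, (Submodule.Quotient.mk_eq_zero J).2 hj, TensorProduct.tmul_zero]
      | zero => simp
      | add x y _ _ hx hy => exact fun c => by rw [mul_add, TensorProduct.add_tmul, hx, hy, add_zero]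
      | smul s x _ hx => exact fun c => by rw [smul_eq_mul, ← mul_assoc]; exact hx (c * s)
    simpa using this 1
  have e1 : L.lTensor C ((1 : C) ⊗ₜ (1 : S)) = 0 := by
    rw [LinearMap.lTensor_tmul, ← h0 _ h]
    show (1 : C) ⊗ₜ[S] (Submodule.Quotient.mk ((1 : S) * a) : S ⧸ J) = _
    rw [Algebra.algebraMap_eq_smul_one, TensorProduct.smul_tmul, ← Submodule.Quotient.mk_smul,
      smul_eq_mul, mul_one, one_mul]
  obtain ⟨t, ht⟩ := (Module.Flat.lTensor_exact C (LinearMap.exact_subtype_ker_map L) _).1 e1
  have hmem : ∀ t, TensorProduct.rid S C ((LinearMap.ker L).subtype.lTensor C t) ∈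
      IsLocalRing.maximalIdeal C := by
    intro t
    induction t using TensorProduct.induction_on with
    | zero => simp
    | add x y hx hy => simp only [map_add]; exact add_mem hx hy
    | tmul c s =>
      rw [LinearMap.lTensor_tmul, TensorProduct.rid_tmul, Algebra.smul_def]
      refine Ideal.mul_mem_right _ _ ?_
      rw [IsScalarTower.algebraMap_apply S R C, IsLocalization.AtPrime.to_map_mem_maximal_iff C m]
      exact hp.symm.le (hker _ s.2)
  have := hmem t
  rw [ht, TensorProduct.rid_tmul, one_smul] at this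
  exact (Ideal.ne_top_iff_one _).1 (IsLocalRing.maximalIdeal.isMaximal C).ne_top this

include hp in
theorem exists_notMem_mul_mem_ideal [IsNoetherianRing S] (J I : Ideal S)
    (h : ∀ a ∈ I, algebraMap S (Localization.AtPrime m) a ∈ J.map (algebraMap S (Localization.AtPrime m))) :
    ∃ c ∉ p, ∀ a ∈ I, c * a ∈ J := by
  classical
  have hpp : p.IsPrime := hp ▸ Ideal.comap_isPrime _ _
  obtain ⟨t, rfl⟩ := IsNoetherian.noetherian I
  have hs : ∀ s : Finset S, (∀ a ∈ s, a ∈ Submodule.span S (t : Set S)) →
      ∃ c ∉ p, ∀ a ∈ s, c * a ∈ J := by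
    intro s
    induction s using Finset.induction with
    | empty => exact fun _ => ⟨1, (Ideal.ne_top_iff_one p).1 hpp.ne_top, by simp⟩
    | insert b s _ ih =>
      intro hbs
      obtain ⟨c, hc, hcs⟩ := ih fun a ha => hbs a (Finset.mem_insert_of_mem ha)
      obtain ⟨d, hd, hdb⟩ := exists_notMem_mul_mem m p hp J b (h b (hbs b (Finset.mem_insert_self _ _)))
      refine ⟨c * d, fun h' => (hpp.mem_or_mem h').elim hc hd, fun a ha => ?_⟩
      rcases Finset.mem_insert.1 ha with rfl | ha
      · rw [mul_assoc]; exact J.mul_mem_left c hdb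
      · rw [mul_comm c, mul_assoc]; exact J.mul_mem_left d (hcs a ha)
  obtain ⟨c, hc, hct⟩ := hs t fun a ha => Submodule.subset_span ha
  refine ⟨c, hc, fun a ha => ?_⟩
  have : Submodule.span S (t : Set S) ≤ Submodule.comap (LinearMap.mulLeft S c) J := Submodule.span_le.2 hct
  exact this ha

end Etale

theorem exists_notMem_smul_mem {S M : Type u} [CommRing S] [AddCommGroup M] [Module S M] [Module.Finite S M]
    (p : Ideal S) [p.IsPrime] (W : Submodule S M) (h : W ⊔ p • (⊤ : Submodule S M) = ⊤) :
    ∃ c ∉ p, ∀ x : M, c • x ∈ W := by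
  have hle : (⊤ : Submodule S (M ⧸ W)) ≤ p • ⊤ := by
    have := congrArg (Submodule.map W.mkQ) h
    rw [Submodule.map_sup, Submodule.map_smul'', Submodule.map_top, Submodule.range_mkQ,
      Submodule.mkQ_map_self, bot_sup_eq] at this
    exact this.ge
  obtain ⟨c, hc, hc0⟩ := Submodule.exists_sub_one_mem_and_smul_eq_zero_of_fg_of_le_smul p ⊤
    Module.Finite.fg_top hle
  refine ⟨c, fun hcp => (Ideal.ne_top_iff_one p).1 Ideal.IsPrime.ne_top' ?_, fun x => ?_⟩
  · simpa using sub_mem hcp hc
  · exact (Submodule.Quotient.mk_eq_zero W).1 (by rw [Submodule.Quotient.mk_smul]; exact hc0 _ trivial)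

section Trunc

variable {S₀ R₀ : Type u} [CommRing S₀] [CommRing R₀] [Algebra S₀ R₀]
variable (s : Ideal S₀) (n : Ideal R₀) [n.IsPrime]

/-- the component at `n` of the extension of `s ^ N` -/
def comp (N : ℕ) : Ideal R₀ :=
  ((s ^ N).map (algebraMap S₀ (Localization.AtPrime n))).comap (algebraMap R₀ (Localization.AtPrime n))

theorem map_pow_le_comp (N : ℕ) : (s ^ N).map (algebraMap S₀ R₀) ≤ comp s n N := by
  rw [comp, ← Ideal.map_le_iff_le_comap, Ideal.map_map, ← IsScalarTower.algebraMap_eq]

theorem exists_notMem_mul_of_mem_comp {N : ℕ} {a : R₀} (ha : a ∈ comp s n N) :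
    ∃ f ∉ n, f * a ∈ (s ^ N).map (algebraMap S₀ R₀) := by
  rw [comp, Ideal.mem_comap, IsScalarTower.algebraMap_eq S₀ R₀, ← Ideal.map_map,
    IsLocalization.algebraMap_mem_map_algebraMap_iff n.primeCompl] at ha
  exact ha

theorem comp_one_le [hns : n.LiesOver s] : comp s n 1 ≤ n := by
  intro a ha
  obtain ⟨f, hf, hfa⟩ := exists_notMem_mul_of_mem_comp s n ha
  rw [pow_one] at hfa
  have : (s.map (algebraMap S₀ R₀)) ≤ n := Ideal.map_le_iff_le_comap.2 (n.over_def s).le
  exact ((Ideal.IsPrime.mem_or_mem inferInstance (this hfa)).resolve_left hf)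

variable [Algebra.IsIntegral S₀ R₀] [s.IsMaximal] [n.IsMaximal] [n.LiesOver s]

theorem eq_of_comp_le {N : ℕ} {P : Ideal R₀} [P.IsPrime] (h : comp s n N ≤ P) : P = n := by
  refine (Ideal.IsMaximal.eq_of_le inferInstance Ideal.IsPrime.ne_top' fun a ha => ?_).symm
  let C := Localization.AtPrime n
  have hrad : algebraMap R₀ C a ∈ ((s ^ N).map (algebraMap S₀ C)).radical := by
    rw [Ideal.radical_eq_sInf, Submodule.mem_sInf]
    rintro (Q : Ideal C) ⟨hQ, hQp⟩
    haveI := hQp
    let P' : Ideal R₀ := Ideal.comap (algebraMap R₀ C) Q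
    have hs : s ^ N ≤ P'.comap (algebraMap S₀ R₀) := by
      rw [Ideal.comap_comap, ← IsScalarTower.algebraMap_eq]
      exact Ideal.map_le_iff_le_comap.1 hQ
    have hs' : P'.comap (algebraMap S₀ R₀) = s :=
      (Ideal.IsMaximal.eq_of_le ‹s.IsMaximal› Ideal.IsPrime.ne_top' (Ideal.IsPrime.le_of_pow_le hs)).symm
    haveI : P'.IsMaximal := Ideal.isMaximal_of_isIntegral_of_isMaximal_comap P' (by rw [hs']; infer_instance)
    have hP'n : P' ≤ n := fun b hb => by
      by_contra hbn
      exact hQp.ne_top (Q.eq_top_of_isUnit_mem hb (IsLocalization.map_units C (M := n.primeCompl) ⟨b, hbn⟩))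
    exact (Ideal.IsMaximal.eq_of_le ‹P'.IsMaximal› Ideal.IsPrime.ne_top' hP'n).ge ha
  obtain ⟨M, hM⟩ := hrad
  exact Ideal.IsPrime.mem_of_pow_mem inferInstance M (h (show a ^ M ∈ comp s n N by
    rw [comp, Ideal.mem_comap, map_pow]; exact hM))

variable [IsNoetherianRing S₀] [Module.Finite S₀ R₀]

/-- A finite algebra whose truncations at `n` are those of the base is etale at `n`. -/
theorem isEtaleAt_of_truncations (hsurj : ∀ N, ∀ r : R₀, ∃ a, r - algebraMap S₀ R₀ a ∈ comp s n N)
    (hinj : ∀ N, ∀ a : S₀, algebraMap S₀ R₀ a ∈ comp s n N → a ∈ s ^ N) :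
    Algebra.IsEtaleAt S₀ n := by
  let C := Localization.AtPrime n
  haveI : IsNoetherianRing R₀ := IsNoetherianRing.of_finite S₀ R₀
  haveI : Algebra.FinitePresentation S₀ R₀ := Algebra.FinitePresentation.of_finiteType.mp inferInstance
  letI := Localization.AtPrime.algebraOfLiesOver s n
  have hns : s ≤ n.comap (algebraMap S₀ R₀) := (n.over_def s).le
  -- the maximal ideal
  have hmax : s.map (algebraMap S₀ C) = IsLocalRing.maximalIdeal C := by
    refine le_antisymm ?_ ?_
    · rw [IsScalarTower.algebraMap_eq S₀ R₀ C, ← Ideal.map_map, ← Localization.AtPrime.map_eq_maximalIdeal]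
      exact Ideal.map_mono (Ideal.map_le_iff_le_comap.2 hns)
    · rw [← Localization.AtPrime.map_eq_maximalIdeal, Ideal.map_le_iff_le_comap]
      intro b hb
      obtain ⟨a, ha⟩ := hsurj 1 b
      have h1 : algebraMap S₀ R₀ a ∈ n := by
        simpa using sub_mem hb (comp_one_le s n ha)
      have h2 : algebraMap S₀ R₀ a ∈ comp s n 1 := map_pow_le_comp s n 1
        (Ideal.mem_map_of_mem _ (by rw [pow_one]; exact (n.over_def s).ge h1))
      have h3 := add_mem ha h2
      rw [sub_add_cancel, comp, pow_one] at h3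
      exact h3
  haveI : Algebra.IsUnramifiedAt S₀ n := by
    refine (Algebra.isUnramifiedAt_iff_map_eq S₀ s n).2 ⟨⟨fun z => ?_⟩, hmax⟩
    obtain ⟨q, hq⟩ := (Ideal.bijective_algebraMap_quotient_residueField n).2 z
    obtain ⟨r, rfl⟩ := Ideal.Quotient.mk_surjective q
    obtain ⟨a, ha⟩ := hsurj 1 r
    have hz : z = algebraMap s.ResidueField n.ResidueField (algebraMap S₀ s.ResidueField a) := by
      rw [← IsScalarTower.algebraMap_apply, IsScalarTower.algebraMap_apply S₀ R₀ n.ResidueField, ← hq,
        show algebraMap R₀ n.ResidueField (algebraMap S₀ R₀ a) =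
          algebraMap (R₀ ⧸ n) n.ResidueField (Ideal.Quotient.mk n (algebraMap S₀ R₀ a)) from
          IsScalarTower.algebraMap_apply R₀ (R₀ ⧸ n) n.ResidueField _]
      exact congrArg _ (Ideal.Quotient.eq.2 (comp_one_le s n ha))
    rw [hz]
    exact isSeparable_algebraMap _
  haveI : Module.Flat S₀ C := by
    refine FlatAdic.flat_of_flat_truncations s ?_ fun N _ => ?_
    · rw [IsLocalRing.jacobson_eq_maximalIdeal ⊥ bot_ne_top, hmax]
    have hC : ∀ c : C, ∃ a, c - algebraMap S₀ C a ∈ (s ^ N).map (algebraMap S₀ C) := by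
      intro c
      obtain ⟨b, f, rfl⟩ := IsLocalization.exists_mk'_eq n.primeCompl c
      obtain ⟨a, ha⟩ := hsurj N b
      obtain ⟨a', ha'⟩ := hsurj N f
      have ha'0 : s ^ N ⊔ Ideal.span {a'} = ⊤ := by
        rcases Nat.eq_zero_or_pos N with rfl | hN
        · simp
        refine Ideal.pow_sup_eq_top (Ideal.IsMaximal.out.2 _ (left_lt_sup.2 fun hle => f.2 ?_))
        obtain ⟨g, hg, hgf⟩ := exists_notMem_mul_of_mem_comp s n ha'
        have h1 : (f : R₀) - algebraMap S₀ R₀ a' ∈ n := by
          refine (Ideal.IsPrime.mem_or_mem inferInstance (x := g) ?_).resolve_left hg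
          exact Ideal.map_le_iff_le_comap.2 ((Ideal.pow_le_self hN.ne').trans hns) hgf
        have h2 := add_mem h1 (hns (hle (Ideal.mem_span_singleton_self a')) : algebraMap S₀ R₀ a' ∈ n)
        rwa [sub_add_cancel] at h2
      obtain ⟨j, hj, i, hi, hji⟩ := Submodule.mem_sup.1 ((Ideal.eq_top_iff_one _).1 ha'0)
      obtain ⟨u, rfl⟩ := Ideal.mem_span_singleton.1 hi
      refine ⟨a * u, ?_⟩
      have hu := IsLocalization.map_units C f
      rw [← Ideal.unit_mul_mem_iff_mem _ hu, mul_sub, IsLocalization.mk'_spec'_mk C b (f : R₀) f.2]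
      have e : algebraMap R₀ C b - algebraMap R₀ C f * algebraMap S₀ C (a * u) =
          algebraMap R₀ C (b - algebraMap S₀ R₀ a) -
            algebraMap S₀ C (a * u) * algebraMap R₀ C ((f : R₀) - algebraMap S₀ R₀ a') +
            algebraMap S₀ C (a * j) := by
        rw [show a * j = a - a * (a' * u) by linear_combination a * hji]
        simp only [map_sub, map_mul, ← IsScalarTower.algebraMap_apply]
        ring
      rw [e]
      exact add_mem (sub_mem ha (Ideal.mul_mem_left _ _ ha')) (Ideal.mem_map_of_mem _ (Ideal.mul_mem_left _ a hj))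
    let T := S₀ ⧸ s ^ N
    let L : T →ₗ[T] T ⊗[S₀] C := LinearMap.toSpanSingleton T _ (1 ⊗ₜ 1)
    have hz : ∀ v ∈ (s ^ N).map (algebraMap S₀ C), ∀ t : T, t ⊗ₜ[S₀] v = 0 := by
      intro v hv
      have : ∀ (c : C) (t : T), t ⊗ₜ[S₀] (c * v) = 0 := by
        induction hv using Submodule.span_induction with
        | mem v hv =>
          obtain ⟨j, hj, rfl⟩ := hv
          intro c t
          rw [mul_comm, ← Algebra.smul_def, ← TensorProduct.smul_tmul, Algebra.smul_def,
            show algebraMap S₀ T j = 0 from Ideal.Quotient.eq_zero_iff_mem.2 hj, zero_mul,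
            TensorProduct.zero_tmul]
        | zero => simp
        | add x y _ _ hx hy => exact fun c t => by rw [mul_add, TensorProduct.tmul_add, hx, hy, add_zero]
        | smul r x _ hx => exact fun c t => by rw [smul_eq_mul, ← mul_assoc]; exact hx (c * r) t
      intro t
      simpa using this 1 t
    have hLs : Function.Surjective L := by
      intro z
      induction z using TensorProduct.induction_on with
      | zero => exact ⟨0, map_zero L⟩
      | add x y hx hy =>
        obtain ⟨a, rfl⟩ := hx
        obtain ⟨b, rfl⟩ := hy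
        exact ⟨a + b, map_add L a b⟩
      | tmul t c =>
        obtain ⟨a, ha⟩ := hC c
        refine ⟨a • t, ?_⟩
        rw [LinearMap.toSpanSingleton_apply, TensorProduct.smul_tmul', smul_eq_mul, mul_one,
          TensorProduct.smul_tmul, ← Algebra.algebraMap_eq_smul_one]
        conv_rhs => rw [show c = algebraMap S₀ C a + (c - algebraMap S₀ C a) from (add_sub_cancel _ _).symm,
          TensorProduct.tmul_add, hz _ ha, add_zero]
    have hLi : Function.Injective L := by
      rw [injective_iff_map_eq_zero]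
      intro t ht
      obtain ⟨a, rfl⟩ := Ideal.Quotient.mk_surjective t
      let φ : T ⊗[S₀] C →ₐ[S₀] C ⧸ (s ^ N).map (algebraMap S₀ C) :=
        Algebra.TensorProduct.lift
          (Ideal.Quotient.liftₐ (s ^ N) (Algebra.ofId S₀ _) fun j hj =>
            Ideal.Quotient.eq_zero_iff_mem.2 (Ideal.mem_map_of_mem _ hj))
          (Ideal.Quotient.mkₐ S₀ _) fun _ _ => Commute.all _ _
      have h' := congrArg φ ht
      rw [map_zero, LinearMap.toSpanSingleton_apply, TensorProduct.smul_tmul', smul_eq_mul, mul_one,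
        Algebra.TensorProduct.lift_tmul, map_one, mul_one] at h'
      refine Ideal.Quotient.eq_zero_iff_mem.2 (hinj N a ?_)
      rw [comp, Ideal.mem_comap, ← IsScalarTower.algebraMap_apply]
      exact Ideal.Quotient.eq_zero_iff_mem.1 h'
    exact Module.Flat.of_linearEquiv (LinearEquiv.ofBijective L ⟨hLi, hLs⟩).symm
  exact EGA418Dim.isEtaleAt_of_flat_of_unramified n

end Trunc

end Groth.Agent.LunaEt
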