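import Groth.Agent.LunaEt.Coeff
import Mathlib

/-!
Maps that become bijective after inverting an element; localised comodule algebras.
-/
set_option autoImplicit false
set_option linter.unusedSectionVars false
set_option synthInstance.maxHeartbeats 200000
set_option maxHeartbeats 1000000
universe u
open TensorProduct Coalgebra
noncomputable section

namespace Groth.Agent.LunaEt

section Away

variable {B L : Type u} [CommRing B] [CommRing L]

/-- `i` becomes bijective after inverting `b`. -/
structure AwayIso (i : B →+* L) (b : B) : Prop where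
  surj : ∀ r : L, ∃ (N : ℕ) (c : B), i c = i b ^ N * r
  ker : ∀ c : B, i c = 0 → ∃ N : ℕ, b ^ N * c = 0

theorem awayIso_algebraMap (f : B) : AwayIso (algebraMap B (Localization.Away f)) f where
  surj r := by
    obtain ⟨c, ⟨_, N, rfl⟩, rfl⟩ := IsLocalization.exists_mk'_eq (Submonoid.powers f) r
    refine ⟨N, c, ?_⟩
    rw [← map_pow]
    exact (IsLocalization.mk'_spec' (Localization.Away f) c (⟨f ^ N, N, rfl⟩ : Submonoid.powers f)).symm
  ker c hc := by
    obtain ⟨⟨_, N, rfl⟩, h⟩ := (IsLocalization.map_eq_zero_iff (Submonoid.powers f) _ c).1 hc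
    exact ⟨N, h⟩

theorem awayIso_of_isOpenImmersion (i : B →+* L)
    (hi : AlgebraicGeometry.IsOpenImmersion (AlgebraicGeometry.Spec.map (CommRingCat.ofHom i)))
    (b : B) (hb : ∀ p : PrimeSpectrum B, b ∉ p.asIdeal → p ∈ Set.range (PrimeSpectrum.comap i)) :
    AwayIso i b := by
  haveI := hi
  open AlgebraicGeometry CategoryTheory in
  have hiso : IsIso (Spec.map (CommRingCat.ofHom i) ∣_ (PrimeSpectrum.basicOpen b : (Spec (.of B)).Opens)) := by
    haveI : IsOpenImmersion (Spec.map (CommRingCat.ofHom i) ∣_ (PrimeSpectrum.basicOpen b : (Spec (.of B)).Opens)) :=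
      IsZariskiLocalAtTarget.restrict hi _
    refine AlgebraicGeometry.isIso_of_isOpenImmersion_of_opensRange_eq_top _ ?_
    refine TopologicalSpace.Opens.ext (Set.eq_univ_of_forall fun p => ?_)
    obtain ⟨q, hq⟩ := hb p.1 p.2
    exact ⟨⟨q, show (Spec.map (CommRingCat.ofHom i)) q ∈ _ from hq ▸ p.2⟩, Subtype.ext ((AlgebraicGeometry.morphismRestrict_base_coe _ _ _).trans hq)⟩
  open AlgebraicGeometry CategoryTheory in
  have hiso' : IsIso (Spec.map (CommRingCat.ofHom (Localization.awayMap i b))) := by
    have := (MorphismProperty.isomorphisms Scheme.{u}).arrow_mk_iso_iff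
      (SpecMapRestrictBasicOpenIso (CommRingCat.ofHom i) b)
    exact this.1 hiso
  have hbij : Function.Bijective (Localization.awayMap i b) :=
    AlgebraicGeometry.isIso_SpecMap_iff.1 hiso'
  refine ⟨fun r => ?_, fun c hc => ?_⟩
  · obtain ⟨z, hz⟩ := hbij.2 (algebraMap L _ r)
    obtain ⟨c, ⟨_, m, rfl⟩, rfl⟩ := IsLocalization.exists_mk'_eq (Submonoid.powers b) z
    rw [Localization.awayMap, IsLocalization.Away.map, IsLocalization.map_mk',
      IsLocalization.mk'_eq_iff_eq_mul, ← map_mul, IsLocalization.eq_iff_exists (Submonoid.powers (i b))] at hz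
    obtain ⟨⟨_, j, rfl⟩, hj⟩ := hz
    simp only [map_pow] at hj
    refine ⟨j + m, b ^ j * c, ?_⟩
    rw [map_mul, map_pow, hj]
    ring
  · have : algebraMap B (Localization.Away b) c = 0 := hbij.1 (by
      rw [map_zero, Localization.awayMap, IsLocalization.Away.map, IsLocalization.map_eq, hc, map_zero])
    obtain ⟨⟨_, N, rfl⟩, h⟩ := (IsLocalization.map_eq_zero_iff (Submonoid.powers b) _ c).1 this
    exact ⟨N, h⟩

variable {S : Type u} [CommRing S] [Algebra S B] [Algebra S L]

/-- Etaleness at a prime is insensitive to maps bijective near it. -/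
theorem isEtaleAt_iff_of_awayIso (i : B →ₐ[S] L) (b : B) (h : AwayIso i.toRingHom b) (Q : Ideal L) [Q.IsPrime]
    (hb : i b ∉ Q) (P : Ideal B) [P.IsPrime] (hP : P = Q.comap i.toRingHom) :
    Algebra.IsEtaleAt S P ↔ Algebra.IsEtaleAt S Q := by
  let φ : Localization.AtPrime P →ₐ[S] Localization.AtPrime Q :=
    IsLocalization.liftAlgHom (M := P.primeCompl) (f := (IsScalarTower.toAlgHom S L (Localization.AtPrime Q)).comp i)
      fun u => IsLocalization.map_units (Localization.AtPrime Q) (M := Q.primeCompl)
        ⟨i u, fun hu => u.2 (hP ▸ hu)⟩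
  have hφ : ∀ c, φ (algebraMap B _ c) = algebraMap L _ (i c) := fun c => IsLocalization.lift_eq _ _
  have hbP : b ∉ P := fun hh => hb (hP.le hh)
  have hbij : Function.Bijective φ := by
    constructor
    · rw [injective_iff_map_eq_zero]
      intro z hz
      obtain ⟨c, d, rfl⟩ := IsLocalization.exists_mk'_eq P.primeCompl z
      have h0 : algebraMap L (Localization.AtPrime Q) (i c) = 0 := by
        rw [← hφ, ← IsLocalization.mk'_spec (Localization.AtPrime P) c d, map_mul, hz, zero_mul]
      obtain ⟨u, hu⟩ := (IsLocalization.map_eq_zero_iff Q.primeCompl _ _).1 h0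
      obtain ⟨N, d', hd'⟩ := h.surj u
      have : i (d' * c) = 0 := by
        rw [map_mul]
        show i d' * i c = 0
        rw [show i d' = i b ^ N * u from hd', mul_assoc, hu, mul_zero]
      obtain ⟨K, hK⟩ := h.ker _ this
      rw [IsLocalization.mk'_eq_zero_iff]
      refine ⟨⟨b ^ K * d', fun hm => ?_⟩, by rw [mul_assoc]; exact hK⟩
      rcases (Ideal.IsPrime.mem_or_mem inferInstance hm) with h1 | h1
      · exact hbP (Ideal.IsPrime.mem_of_pow_mem inferInstance K h1)
      · have h2 : i d' ∈ Q := hP.le h1
        rw [show i d' = i b ^ N * u from hd'] at h2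
        exact ((Ideal.IsPrime.mem_or_mem inferInstance h2).elim
          (fun h3 => hb (Ideal.IsPrime.mem_of_pow_mem inferInstance N h3)) u.2)
    · intro z
      obtain ⟨r, u, rfl⟩ := IsLocalization.exists_mk'_eq Q.primeCompl z
      obtain ⟨N, c, hc⟩ := h.surj r
      obtain ⟨M, d, hd⟩ := h.surj u
      replace hc : i c = i b ^ N * r := hc
      replace hd : i d = i b ^ M * u := hd
      have hdP : d * b ^ N ∉ P := fun hh => by
        rw [hP, Ideal.mem_comap] at hh
        replace hh : i (d * b ^ N) ∈ Q := hh
        rw [map_mul, map_pow, hd] at hh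
        rcases Ideal.IsPrime.mem_or_mem inferInstance hh with h1 | h1
        · exact (Ideal.IsPrime.mem_or_mem inferInstance h1).elim
            (fun h3 => hb (Ideal.IsPrime.mem_of_pow_mem inferInstance M h3)) u.2
        · exact hb (Ideal.IsPrime.mem_of_pow_mem inferInstance N h1)
      refine ⟨IsLocalization.mk' _ (c * b ^ M) (⟨d * b ^ N, hdP⟩ : P.primeCompl), ?_⟩
      rw [IsLocalization.eq_mk'_iff_mul_eq]
      have e : φ (IsLocalization.mk' _ (c * b ^ M) (⟨d * b ^ N, hdP⟩ : P.primeCompl)) *
          algebraMap L (Localization.AtPrime Q) (i (d * b ^ N)) =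
          algebraMap L (Localization.AtPrime Q) (i (c * b ^ M)) := by
        rw [← hφ, ← hφ, ← map_mul]
        exact congrArg φ (IsLocalization.mk'_spec (Localization.AtPrime P) (c * b ^ M)
          (⟨d * b ^ N, hdP⟩ : P.primeCompl))
      rw [map_mul i, map_mul i, map_pow i, map_pow i, hc, hd] at e
      simp only [map_mul, map_pow] at e
      have hu : IsUnit (algebraMap L (Localization.AtPrime Q) (i b)) :=
        IsLocalization.map_units _ (M := Q.primeCompl) ⟨i b, hb⟩
      apply (hu.pow (N + M)).mul_left_cancel
      rw [pow_add]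
      linear_combination e
  exact Algebra.FormallyEtale.iff_of_equiv (AlgEquiv.ofBijective φ hbij)

end Away

section Comodule

variable {k : Type u} [Field k] {A : Type u} [CommRing A] [HopfAlgebra k A]
variable {R : Type u} [CommRing R] [Algebra k R] [HopfRep.Comod k A R] [GLin.IsCoactAlg k A R]
variable (f : R) (hf : f ∈ GLin.invariants k A R)

local notation "ρ" => GLin.coactAlgHom k A R

variable (A) in
/-- the coaction on the localisation at an invariant -/
def awayCoact : Localization.Away f →ₐ[k] Localization.Away f ⊗[k] A :=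
  IsLocalization.liftAlgHom (M := Submonoid.powers f)
    (f := (Algebra.TensorProduct.map (IsScalarTower.toAlgHom k R (Localization.Away f)) (AlgHom.id k A)).comp ρ)
    (by
      rintro ⟨_, N, rfl⟩
      show IsUnit (Algebra.TensorProduct.map (IsScalarTower.toAlgHom k R (Localization.Away f)) (AlgHom.id k A)
        (ρ (f ^ N)))
      rw [map_pow, map_pow, show ρ f = f ⊗ₜ[k] (1 : A) from hf, Algebra.TensorProduct.map_tmul,
        IsScalarTower.coe_toAlgHom', map_one]
      exact ((IsLocalization.Away.algebraMap_isUnit f).map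
        (Algebra.TensorProduct.includeLeft : Localization.Away f →ₐ[k] Localization.Away f ⊗[k] A)).pow N)

theorem awayCoact_algebraMap (u : R) : awayCoact A f hf (algebraMap R _ u) =
    Algebra.TensorProduct.map (IsScalarTower.toAlgHom k R (Localization.Away f)) (AlgHom.id k A) (ρ u) :=
  IsLocalization.lift_eq _ _

variable (A) in
/-- the localised comodule -/
@[instance_reducible]
def awayComod : HopfRep.Comod k A (Localization.Away f) where
  coact := (awayCoact A f hf).toLinearMap
  coassoc := by
    let L := Localization.Away f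
    let E1 : L →ₐ[k] L ⊗[k] (A ⊗[k] A) :=
      ((Algebra.TensorProduct.assoc k k k L A A).toAlgHom.comp
        (Algebra.TensorProduct.map (awayCoact A f hf) (AlgHom.id k A))).comp (awayCoact A f hf)
    let E2 : L →ₐ[k] L ⊗[k] (A ⊗[k] A) :=
      (Algebra.TensorProduct.map (AlgHom.id k L) (Bialgebra.comulAlgHom k A)).comp (awayCoact A f hf)
    let m : R →ₗ[k] L := (IsScalarTower.toAlgHom k R L).toLinearMap
    have hm : ∀ t : R ⊗[k] A, Algebra.TensorProduct.map (IsScalarTower.toAlgHom k R L) (AlgHom.id k A) t =
        m.rTensor A t := fun t => rfl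
    have hE : E1 = E2 := by
      refine IsLocalization.algHom_ext (Submonoid.powers f) (AlgHom.ext fun u => ?_)
      show TensorProduct.assoc k L A A (Algebra.TensorProduct.map (awayCoact A f hf) (AlgHom.id k A)
          (awayCoact A f hf (algebraMap R L u))) =
        (Coalgebra.comul (R := k) (A := A)).lTensor L (awayCoact A f hf (algebraMap R L u))
      rw [awayCoact_algebraMap, hm]
      have h1 : ∀ t : R ⊗[k] A, Algebra.TensorProduct.map (awayCoact A f hf) (AlgHom.id k A) (m.rTensor A t) =
          (m.rTensor A).rTensor A ((GLin.coactAlgHom k A R).toLinearMap.rTensor A t) := fun t => by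
        induction t using TensorProduct.induction_on with
        | zero => simp
        | tmul a b =>
          rw [LinearMap.rTensor_tmul, Algebra.TensorProduct.map_tmul, LinearMap.rTensor_tmul, LinearMap.rTensor_tmul]
          show awayCoact A f hf (algebraMap R L a) ⊗ₜ[k] b = _
          rw [awayCoact_algebraMap, hm]
          rfl
        | add a b ha hb => simp only [map_add, ha, hb]
      have h2 : ∀ s : (R ⊗[k] A) ⊗[k] A, TensorProduct.assoc k L A A ((m.rTensor A).rTensor A s) =
          m.rTensor (A ⊗[k] A) (TensorProduct.assoc k R A A s) := fun s => by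
        induction s using TensorProduct.induction_on with
        | zero => simp
        | add a b ha hb => simp only [map_add, ha, hb]
        | tmul t c =>
          induction t using TensorProduct.induction_on with
          | zero => simp
          | tmul a b => simp
          | add a b ha hb => simp only [map_add, TensorProduct.add_tmul, ha, hb]
      have h3 : ∀ t : R ⊗[k] A, m.rTensor (A ⊗[k] A) (comul.lTensor R t) =
          comul.lTensor L (m.rTensor A t) := fun t => by
        induction t using TensorProduct.induction_on with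
        | zero => simp
        | tmul a b => simp
        | add a b ha hb => simp only [map_add, ha, hb]
      rw [h1, h2, show TensorProduct.assoc k R A A ((GLin.coactAlgHom k A R).toLinearMap.rTensor A (ρ u)) =
        comul.lTensor R (ρ u) from LinearMap.congr_fun HopfRep.Comod.coassoc u, h3]
    exact congrArg AlgHom.toLinearMap hE
  counit_comp := by
    let L := Localization.Away f
    let E1 : L →ₐ[k] L ⊗[k] k :=
      (Algebra.TensorProduct.map (AlgHom.id k L) (Bialgebra.counitAlgHom k A)).comp (awayCoact A f hf)
    let E2 : L →ₐ[k] L ⊗[k] k := Algebra.TensorProduct.includeLeft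
    have hE : E1 = E2 := by
      refine IsLocalization.algHom_ext (Submonoid.powers f) (AlgHom.ext fun u => ?_)
      show (Coalgebra.counit (R := k) (A := A)).lTensor L (awayCoact A f hf (algebraMap R L u)) =
        algebraMap R L u ⊗ₜ[k] (1 : k)
      rw [awayCoact_algebraMap]
      have h3 : ∀ t : R ⊗[k] A, counit.lTensor L
          (Algebra.TensorProduct.map (IsScalarTower.toAlgHom k R L) (AlgHom.id k A) t) =
          (IsScalarTower.toAlgHom k R L).toLinearMap.rTensor k (counit.lTensor R t) := fun t => by
        induction t using TensorProduct.induction_on with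
        | zero => simp
        | tmul a b => simp
        | add a b ha hb => simp only [map_add, ha, hb]
      rw [h3, show counit.lTensor R (ρ u) = u ⊗ₜ (1 : k) from LinearMap.congr_fun HopfRep.Comod.counit_comp u]
      rfl
    exact congrArg AlgHom.toLinearMap hE

theorem away_isCoactAlg :
    @GLin.IsCoactAlg k _ A _ _ (Localization.Away f) _ _ (awayComod A f hf) := by
  letI := awayComod A f hf
  exact ⟨map_one (awayCoact A f hf), map_mul (awayCoact A f hf)⟩

end Comodule

section Restrict

variable {k : Type u} [Field k] {A : Type u} [CommRing A] [HopfAlgebra k A]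
variable {B L : Type u} [CommRing B] [Algebra k B] [HopfRep.Comod k A B] [GLin.IsCoactAlg k A B]
variable [CommRing L] [Algebra k L] [HopfRep.Comod k A L] [GLin.IsCoactAlg k A L]
variable (i : B →ₐ[k] L) (hi : ∀ s : B, HopfRep.Comod.coact (k := k) (A := A) (i s) =
  Algebra.TensorProduct.map i (AlgHom.id k A) (HopfRep.Comod.coact (k := k) (A := A) s))

include hi in
theorem map_mem_invariants {c : B} (hc : c ∈ GLin.invariants k A B) : i c ∈ GLin.invariants k A L := by
  show HopfRep.Comod.coact (k := k) (A := A) (i c) = i c ⊗ₜ[k] (1 : A)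
  rw [hi, show HopfRep.Comod.coact (k := k) (A := A) c = c ⊗ₜ[k] (1 : A) from hc]
  simp

variable {B₀ L₀ : Type u} [CommRing B₀] [Algebra k B₀] [CommRing L₀] [Algebra k L₀]
variable (jB : B₀ →ₐ[k] B) (hjB : jB.range = GLin.invariants k A B) (hjBi : Function.Injective jB)
variable (jL : L₀ →ₐ[k] L) (hjL : jL.range = GLin.invariants k A L) (hjLi : Function.Injective jL)
variable (r : Comod.Integral k A)

include hi hjB hjBi hjL hjLi r in
/-- A map bijective away from an invariant is so on invariants. -/
theorem awayIso_invariants (i₀ : B₀ →+* L₀) (hi₀ : ∀ c, jL (i₀ c) = i (jB c)) (b : B₀)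
    (h : AwayIso i.toRingHom (jB b)) : AwayIso i₀ b where
  surj e := by
    obtain ⟨N, c, hc⟩ := h.surj (jL e)
    replace hc : i c = i (jB b) ^ N * jL e := hc
    obtain ⟨c₀, hc₀⟩ := exists_reynolds_eq jB hjB r c
    refine ⟨N, c₀, hjLi ?_⟩
    rw [hi₀, hc₀, map_mul, map_pow, hi₀, reynolds_eq_coef, coef_map i hi, hc, coef_invariant, r.one, one_smul]
    rw [← hjL]
    exact ⟨i₀ b ^ N * e, by simp [hi₀]⟩
  ker c hc := by
    obtain ⟨N, hN⟩ := h.ker (jB c) (show i (jB c) = 0 by rw [← hi₀, hc, map_zero])
    exact ⟨N, hjBi (by rw [map_zero, map_mul, map_pow]; exact hN)⟩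

end Restrict

end Groth.Agent.LunaEt
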