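import Groth.Agent.LunaEt.Coeff

/-!
Base change of a comodule algebra along a map out of its invariants.
-/
set_option autoImplicit false
set_option linter.unusedSectionVars false
set_option synthInstance.maxHeartbeats 200000
set_option maxHeartbeats 1000000
universe u
open TensorProduct Coalgebra
noncomputable section

namespace Groth.Agent.LunaEt

variable {k : Type u} [Field k] {A : Type u} [CommRing A] [HopfAlgebra k A]
variable {S : Type u} [CommRing S] [Algebra k S] [HopfRep.Comod k A S] [GLin.IsCoactAlg k A S]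
variable {S₀ : Type u} [CommRing S₀] [Algebra k S₀] [Algebra S₀ S] [IsScalarTower k S₀ S]
variable (hS₀ : (IsScalarTower.toAlgHom k S₀ S).range = GLin.invariants k A S)
variable (R₀ : Type u) [CommRing R₀] [Algebra k R₀] [Algebra S₀ R₀] [IsScalarTower k S₀ R₀]

/-- the left inclusion over `k` -/
abbrev incLeft : S →ₐ[k] S ⊗[S₀] R₀ :=
  (Algebra.TensorProduct.includeLeft : S →ₐ[S₀] S ⊗[S₀] R₀).restrictScalars k

/-- the right inclusion over `k` -/
abbrev incRight : R₀ →ₐ[k] S ⊗[S₀] R₀ :=
  (Algebra.TensorProduct.includeRight : R₀ →ₐ[S₀] S ⊗[S₀] R₀).restrictScalars k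

variable (A) in
/-- the coaction on the base change -/
def tensorCoact : S ⊗[S₀] R₀ →ₐ[k] (S ⊗[S₀] R₀) ⊗[k] A :=
  (Algebra.TensorProduct.lift (R := S₀) (S := S₀)
    ({ ((Algebra.TensorProduct.map (incLeft (k := k) (S := S) (S₀ := S₀) R₀) (AlgHom.id k A)).comp
        (GLin.coactAlgHom k A S)).toRingHom with
      commutes' := fun a => by
        have h : HopfRep.Comod.coact (k := k) (A := A) (algebraMap S₀ S a) = algebraMap S₀ S a ⊗ₜ[k] (1 : A) :=
          mem_invariants_map (IsScalarTower.toAlgHom k S₀ S) hS₀ a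
        show Algebra.TensorProduct.map (incLeft (k := k) (S := S) (S₀ := S₀) R₀) (AlgHom.id k A)
          (HopfRep.Comod.coact (k := k) (A := A) (algebraMap S₀ S a)) = _
        rw [h, Algebra.TensorProduct.map_tmul]
        rfl } : S →ₐ[S₀] (S ⊗[S₀] R₀) ⊗[k] A)
    ((Algebra.TensorProduct.includeLeft : S ⊗[S₀] R₀ →ₐ[S₀] (S ⊗[S₀] R₀) ⊗[k] A).comp
      Algebra.TensorProduct.includeRight)
    (fun _ _ => Commute.all _ _)).restrictScalars k

theorem tensorCoact_left (s : S) : tensorCoact A hS₀ R₀ (s ⊗ₜ[S₀] (1 : R₀)) =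
    Algebra.TensorProduct.map (incLeft (k := k) (S := S) (S₀ := S₀) R₀) (AlgHom.id k A)
      (GLin.coactAlgHom k A S s) := by
  simp [tensorCoact, ← Algebra.TensorProduct.one_def]

theorem tensorCoact_right (b : R₀) : tensorCoact A hS₀ R₀ ((1 : S) ⊗ₜ[S₀] b) =
    ((1 : S) ⊗ₜ[S₀] b) ⊗ₜ[k] (1 : A) := by
  simp [tensorCoact, GLin.IsCoactAlg.coact_one]

theorem algHom_ext_tensor {C : Type u} [CommRing C] [Algebra k C] (f g : S ⊗[S₀] R₀ →ₐ[k] C)
    (h1 : ∀ s : S, f (s ⊗ₜ 1) = g (s ⊗ₜ 1)) (h2 : ∀ b : R₀, f (1 ⊗ₜ b) = g (1 ⊗ₜ b)) : f = g := by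
  refine AlgHom.ext fun z => ?_
  induction z using TensorProduct.induction_on with
  | zero => simp
  | add a b ha hb => simp only [map_add, ha, hb]
  | tmul a b =>
    rw [show a ⊗ₜ[S₀] b = (a ⊗ₜ[S₀] (1 : R₀)) * ((1 : S) ⊗ₜ[S₀] b) by simp, map_mul, map_mul, h1, h2]

section Generic

variable {T : Type u} [CommRing T] [Algebra k T] (ρT : T →ₐ[k] T ⊗[k] A) (iS : S →ₐ[k] T) {W : Type u}
variable [CommRing W] [Algebra k W] (iR : W →ₐ[k] T)
variable (hl : ∀ s, ρT (iS s) = Algebra.TensorProduct.map iS (AlgHom.id k A) (GLin.coactAlgHom k A S s))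
variable (hr : ∀ b, ρT (iR b) = iR b ⊗ₜ[k] (1 : A))

include hl hr in
theorem coassoc_of_gen (hext : ∀ (f g : T →ₐ[k] T ⊗[k] (A ⊗[k] A)),
    (∀ s, f (iS s) = g (iS s)) → (∀ b, f (iR b) = g (iR b)) → f = g) :
    (TensorProduct.assoc k T A A).toLinearMap ∘ₗ ρT.toLinearMap.rTensor A ∘ₗ ρT.toLinearMap =
      (Coalgebra.comul (R := k) (A := A)).lTensor T ∘ₗ ρT.toLinearMap := by
  let E1 : T →ₐ[k] T ⊗[k] (A ⊗[k] A) :=
    ((Algebra.TensorProduct.assoc k k k T A A).toAlgHom.comp
      (Algebra.TensorProduct.map ρT (AlgHom.id k A))).comp ρT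
  let E2 : T →ₐ[k] T ⊗[k] (A ⊗[k] A) :=
    (Algebra.TensorProduct.map (AlgHom.id k T) (Bialgebra.comulAlgHom k A)).comp ρT
  let m : S →ₗ[k] T := iS.toLinearMap
  have hm : ∀ t : S ⊗[k] A, Algebra.TensorProduct.map iS (AlgHom.id k A) t = m.rTensor A t := fun t => rfl
  have hE : E1 = E2 := by
    refine hext _ _ (fun u => ?_) (fun b => ?_)
    swap
    · show TensorProduct.assoc k T A A (Algebra.TensorProduct.map ρT (AlgHom.id k A) (ρT (iR b))) =
        (Coalgebra.comul (R := k) (A := A)).lTensor T (ρT (iR b))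
      rw [hr, Algebra.TensorProduct.map_tmul, hr, LinearMap.lTensor_tmul, Bialgebra.comul_one]
      rfl
    show TensorProduct.assoc k T A A (Algebra.TensorProduct.map ρT (AlgHom.id k A) (ρT (iS u))) =
      (Coalgebra.comul (R := k) (A := A)).lTensor T (ρT (iS u))
    rw [hl, hm]
    have h1 : ∀ t : S ⊗[k] A, Algebra.TensorProduct.map ρT (AlgHom.id k A) (m.rTensor A t) =
        (m.rTensor A).rTensor A ((GLin.coactAlgHom k A S).toLinearMap.rTensor A t) := fun t => by
      induction t using TensorProduct.induction_on with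
      | zero => simp
      | tmul a b =>
        rw [LinearMap.rTensor_tmul, Algebra.TensorProduct.map_tmul, LinearMap.rTensor_tmul, LinearMap.rTensor_tmul]
        show ρT (iS a) ⊗ₜ[k] b = _
        rw [hl, hm]
        rfl
      | add a b ha hb => simp only [map_add, ha, hb]
    have h2 : ∀ s : (S ⊗[k] A) ⊗[k] A, TensorProduct.assoc k T A A ((m.rTensor A).rTensor A s) =
        m.rTensor (A ⊗[k] A) (TensorProduct.assoc k S A A s) := fun s => by
      induction s using TensorProduct.induction_on with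
      | zero => simp
      | add a b ha hb => simp only [map_add, ha, hb]
      | tmul t c =>
        induction t using TensorProduct.induction_on with
        | zero => simp
        | tmul a b => simp
        | add a b ha hb => simp only [map_add, TensorProduct.add_tmul, ha, hb]
    have h3 : ∀ t : S ⊗[k] A, m.rTensor (A ⊗[k] A) (comul.lTensor S t) =
        comul.lTensor T (m.rTensor A t) := fun t => by
      induction t using TensorProduct.induction_on with
      | zero => simp
      | tmul a b => simp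
      | add a b ha hb => simp only [map_add, ha, hb]
    rw [h1, h2, show TensorProduct.assoc k S A A ((GLin.coactAlgHom k A S).toLinearMap.rTensor A
      (GLin.coactAlgHom k A S u)) = comul.lTensor S (GLin.coactAlgHom k A S u) from
      LinearMap.congr_fun HopfRep.Comod.coassoc u, h3]
  exact congrArg AlgHom.toLinearMap hE

include hl hr in
theorem counit_comp_of_gen (hext : ∀ (f g : T →ₐ[k] T ⊗[k] k),
    (∀ s, f (iS s) = g (iS s)) → (∀ b, f (iR b) = g (iR b)) → f = g) :
    (Coalgebra.counit (R := k) (A := A)).lTensor T ∘ₗ ρT.toLinearMap = (TensorProduct.mk k T k).flip 1 := by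
  let E1 : T →ₐ[k] T ⊗[k] k :=
    (Algebra.TensorProduct.map (AlgHom.id k T) (Bialgebra.counitAlgHom k A)).comp ρT
  let E2 : T →ₐ[k] T ⊗[k] k := Algebra.TensorProduct.includeLeft
  have hE : E1 = E2 := by
    refine hext _ _ (fun u => ?_) (fun b => ?_)
    swap
    · show (Coalgebra.counit (R := k) (A := A)).lTensor T (ρT (iR b)) = iR b ⊗ₜ[k] (1 : k)
      rw [hr, LinearMap.lTensor_tmul, Bialgebra.counit_one]
    show (Coalgebra.counit (R := k) (A := A)).lTensor T (ρT (iS u)) = iS u ⊗ₜ[k] (1 : k)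
    rw [hl]
    have h3 : ∀ t : S ⊗[k] A, counit.lTensor T (Algebra.TensorProduct.map iS (AlgHom.id k A) t) =
        iS.toLinearMap.rTensor k (counit.lTensor S t) := fun t => by
      induction t using TensorProduct.induction_on with
      | zero => simp
      | tmul a b => simp
      | add a b ha hb => simp only [map_add, ha, hb]
    rw [h3, show counit.lTensor S (GLin.coactAlgHom k A S u) = u ⊗ₜ (1 : k) from
      LinearMap.congr_fun HopfRep.Comod.counit_comp u]
    rfl
  exact congrArg AlgHom.toLinearMap hE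

end Generic

variable (A) in
/-- the base changed comodule -/
@[instance_reducible]
def tensorComod : HopfRep.Comod k A (S ⊗[S₀] R₀) where
  coact := (tensorCoact A hS₀ R₀).toLinearMap
  coassoc := coassoc_of_gen (tensorCoact A hS₀ R₀) (incLeft R₀) (incRight R₀) (tensorCoact_left hS₀ R₀)
    (tensorCoact_right hS₀ R₀) (algHom_ext_tensor R₀)
  counit_comp := counit_comp_of_gen (tensorCoact A hS₀ R₀) (incLeft R₀) (incRight R₀) (tensorCoact_left hS₀ R₀)
    (tensorCoact_right hS₀ R₀) (algHom_ext_tensor R₀)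

theorem tensor_isCoactAlg :
    @GLin.IsCoactAlg k _ A _ _ (S ⊗[S₀] R₀) _ _ (tensorComod A hS₀ R₀) := by
  letI := tensorComod A hS₀ R₀
  exact ⟨map_one (tensorCoact A hS₀ R₀), map_mul (tensorCoact A hS₀ R₀)⟩

/-- the invariants of the base change -/
theorem range_incRight_eq_invariants (r : Comod.Integral k A) :
    letI := tensorComod A hS₀ R₀
    haveI := tensor_isCoactAlg (A := A) hS₀ R₀
    (incRight (k := k) (S := S) (S₀ := S₀) R₀).range = GLin.invariants k A (S ⊗[S₀] R₀) := by
  letI := tensorComod A hS₀ R₀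
  haveI := tensor_isCoactAlg (A := A) hS₀ R₀
  refine le_antisymm ?_ fun v hv => ?_
  · rintro _ ⟨b, rfl⟩
    exact tensorCoact_right hS₀ R₀ b
  · rw [← Comod.reynolds_of_mem r hv]
    clear hv
    have hleft : ∀ (φ : A →ₗ[k] k) (s : S), coef φ (s ⊗ₜ[S₀] (1 : R₀)) = coef φ s ⊗ₜ[S₀] (1 : R₀) := by
      intro φ s
      rw [coef_apply, coef_apply]
      show Comod.cR φ (tensorCoact A hS₀ R₀ (s ⊗ₜ 1)) = _
      rw [tensorCoact_left]
      generalize GLin.coactAlgHom k A S s = t
      induction t using TensorProduct.induction_on with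
      | zero => simp
      | tmul a b => simp [TensorProduct.smul_tmul']
      | add a b ha hb => simp only [map_add, TensorProduct.add_tmul, ha, hb]
    induction v using TensorProduct.induction_on with
    | zero => rw [map_zero]; exact zero_mem _
    | add a b ha hb => rw [map_add]; exact add_mem ha hb
    | tmul s b =>
      rw [show s ⊗ₜ[S₀] b = (s ⊗ₜ[S₀] (1 : R₀)) * ((1 : S) ⊗ₜ[S₀] b) by simp, reynolds_eq_coef,
        coef_mul_invariant _ _ (tensorCoact_right hS₀ R₀ b), hleft, ← reynolds_eq_coef]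
      obtain ⟨a, ha⟩ := exists_reynolds_eq (IsScalarTower.toAlgHom k S₀ S) hS₀ r s
      rw [← ha, IsScalarTower.coe_toAlgHom', Algebra.TensorProduct.tmul_mul_tmul, mul_one, one_mul,
        Algebra.algebraMap_eq_smul_one, TensorProduct.smul_tmul]
      exact ⟨a • b, rfl⟩

end Groth.Agent.LunaEt
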