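import Groth.Agent.LunaEt.Main
import Groth.Agent.LunaEt.Away
import Groth.Agent.LunaEt.Tensor
import Groth.Agent.InvFG.Graded

/-!
Cartesianness over the invariants near a closed orbit.
-/
set_option autoImplicit false
set_option linter.unusedSectionVars false
set_option maxHeartbeats 1000000
set_option synthInstance.maxHeartbeats 100000
universe u
open TensorProduct
noncomputable section

namespace Groth.Agent.LunaEt

variable {k : Type u} [Field k] [IsAlgClosed k] [CharZero k]
variable {A : Type u} [CommRing A] [HopfAlgebra k A] [Algebra.FiniteType k A]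
variable {S : Type u} [CommRing S] [Algebra k S] [Algebra.FiniteType k S] [HopfRep.Comod k A S] [GLin.IsCoactAlg k A S]
variable {R : Type u} [CommRing R] [Algebra k R] [Algebra.FiniteType k R] [HopfRep.Comod k A R] [GLin.IsCoactAlg k A R]
variable [Algebra S R] [IsScalarTower k S R]
variable (hequiv : ∀ s : S, HopfRep.Comod.coact (k := k) (A := A) (algebraMap S R s) =
  Algebra.TensorProduct.map (IsScalarTower.toAlgHom k S R) (AlgHom.id k A) (HopfRep.Comod.coact (k := k) (A := A) s))
variable {S₀ : Type u} [CommRing S₀] [Algebra k S₀] [Algebra S₀ S] [IsScalarTower k S₀ S]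
variable (hS₀i : Function.Injective (algebraMap S₀ S))
variable (hS₀ : (IsScalarTower.toAlgHom k S₀ S).range = GLin.invariants k A S)
variable {R₀ : Type u} [CommRing R₀] [Algebra k R₀] [Algebra R₀ R] [IsScalarTower k R₀ R]
variable (hR₀i : Function.Injective (algebraMap R₀ R))
variable (hR₀ : (IsScalarTower.toAlgHom k R₀ R).range = GLin.invariants k A R)
variable [Algebra S₀ R₀] [Algebra S₀ R] [IsScalarTower S₀ S R] [IsScalarTower S₀ R₀ R]
variable (r : Comod.Integral k A) (x : R →ₐ[k] k)

theorem isScalarTower_invariants (k S R : Type u) [CommRing k] [CommRing S] [CommRing R] [Algebra k S] [Algebra k R]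
    [Algebra S R] [IsScalarTower k S R] {S₀ R₀ : Type u} [CommRing S₀] [CommRing R₀] [Algebra k S₀] [Algebra k R₀]
    [Algebra S₀ S] [IsScalarTower k S₀ S] [Algebra R₀ R] [IsScalarTower k R₀ R] [Algebra S₀ R₀] [Algebra S₀ R]
    [IsScalarTower S₀ S R] [IsScalarTower S₀ R₀ R] (hi : Function.Injective (algebraMap R₀ R)) :
    IsScalarTower k S₀ R₀ :=
  IsScalarTower.of_algebraMap_eq fun c => hi (by
    rw [← IsScalarTower.algebraMap_apply S₀ R₀ R, IsScalarTower.algebraMap_apply S₀ S R,
      ← IsScalarTower.algebraMap_apply k S₀ S, ← IsScalarTower.algebraMap_apply k S R,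
      ← IsScalarTower.algebraMap_apply k R₀ R])

include hequiv hS₀ hR₀i hR₀ in
theorem finiteType_invariants (hG : HopfRep.IsLinearlyReductive k A) : Algebra.FiniteType S₀ R₀ := by
  haveI : IsNoetherianRing S := Algebra.FiniteType.isNoetherianRing k S
  haveI : Algebra.FiniteType S R := Algebra.FiniteType.of_restrictScalars_finiteType k S R
  haveI := isScalarTower_invariants k S R (S₀ := S₀) (R₀ := R₀) hR₀i
  obtain ⟨t, ht⟩ := InvFG.exists_invariants_adjoin (A := S) (C := R) hG (by
    show HopfRep.Comod.coact (k := k) (A := A) ∘ₗ (IsScalarTower.toAlgHom k S R).toLinearMap =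
      (IsScalarTower.toAlgHom k S R).toLinearMap.rTensor A ∘ₗ HopfRep.Comod.coact (k := k) (A := A)
    refine LinearMap.ext fun s => ?_
    exact hequiv s)
  classical
  have hmem : ∀ v ∈ t, v ∈ GLin.invariants k A R := fun v hv =>
    ht.symm ▸ Algebra.subset_adjoin (Set.mem_union_right _ (Finset.mem_coe.2 hv))
  choose g hg using fun v (hv : v ∈ t) => (hR₀.ge (hmem v hv) :)
  refine ⟨⟨t.attach.image fun v => g v.1 v.2, eq_top_iff.2 fun b _ => ?_⟩⟩
  let G : Subalgebra S₀ R₀ := Algebra.adjoin S₀ ((t.attach.image fun v => g v.1 v.2 : Finset R₀) : Set R₀)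
  have hle : GLin.invariants k A R ≤ (G.restrictScalars k).map (IsScalarTower.toAlgHom k R₀ R) := by
    rw [ht, Algebra.adjoin_le_iff]
    rintro v (⟨s, hs, rfl⟩ | hv)
    · obtain ⟨a, rfl⟩ := (hS₀.ge hs :)
      exact ⟨algebraMap S₀ R₀ a, G.algebraMap_mem a, by
        show algebraMap R₀ R (algebraMap S₀ R₀ a) = algebraMap S R (algebraMap S₀ S a)
        rw [← IsScalarTower.algebraMap_apply, ← IsScalarTower.algebraMap_apply]⟩
    · exact ⟨g v hv, Algebra.subset_adjoin (Finset.mem_coe.2 (Finset.mem_image_of_mem _ (Finset.mem_attach _ ⟨v, hv⟩))),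
        hg v hv⟩
  obtain ⟨b', hb', hbb⟩ := hle (mem_invariants_map _ hR₀ b)
  exact hR₀i hbb ▸ hb'

variable (k A S R) in
/-- the span over the base of the invariants -/
def invSpan : Submodule S R := Submodule.span S (GLin.invariants k A R : Set R)

theorem mul_mem_invSpan {f w : R} (hf : f ∈ GLin.invariants k A R) (hw : w ∈ invSpan k A S R) :
    f * w ∈ invSpan k A S R := by
  refine (Submodule.span_le (p := Submodule.comap (LinearMap.mulLeft S f) (invSpan k A S R))).2 ?_ hw
  exact fun v hv => Submodule.subset_span (mul_mem hf hv)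

include hequiv hS₀ hR₀ r in
/-- For a finite map, an invariant conductor avoids the point. -/
theorem exists_mul_mem_invSpan [Module.Finite S R] [Algebra.IsIntegral S₀ R₀] (hx : GLin.IsClosedOrbit k A x)
    (m : Ideal R) [m.IsMaximal] (hm : m = RingHom.ker x.toRingHom) [Algebra.IsEtaleAt S m]
    (hinj : ∀ g : A →ₐ[k] k, GLin.actPt k g (x.comp (IsScalarTower.toAlgHom k S R)) =
      x.comp (IsScalarTower.toAlgHom k S R) → GLin.actPt k g x = x) :
    ∃ b : R₀, b ∉ Ideal.comap (algebraMap R₀ R) m ∧ ∀ c : R, algebraMap R₀ R b * c ∈ invSpan k A S R := by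
  let ι := IsScalarTower.toAlgHom k S R
  let j := IsScalarTower.toAlgHom k R₀ R
  let n : Ideal R₀ := Ideal.comap (algebraMap R₀ R) m
  let s : Ideal S₀ := basePt (S := S) (S₀ := S₀) x
  haveI : s.IsMaximal := isMaximal_ker _
  haveI : n.IsMaximal := isMaximal_comap x m hm
  haveI : n.LiesOver s := liesOver_basePt x m hm
  let Ws : Subalgebra S R := (invSpan k A S R).toSubalgebra (Submodule.subset_span (one_mem _)) (fun v w hv hw => by
    refine (Submodule.span_le (p := Submodule.comap (LinearMap.mulRight S w) (invSpan k A S R))).2 ?_ hv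
    exact fun f hf => mul_mem_invSpan hf hw)
  haveI : Module.Finite Ws R := Module.Finite.of_restrictScalars_finite S Ws R
  let ν : R₀ →+* Ws := (algebraMap R₀ R).codRestrict Ws fun b => Submodule.subset_span (mem_invariants_map j hR₀ b)
  let I : Ideal Ws := n.map ν
  let M : Submodule Ws R := LinearMap.range (Algebra.linearMap Ws R)
  have hsurj : M ⊔ I • (⊤ : Submodule Ws R) = ⊤ := by
    refine eq_top_iff.2 fun f _ => ?_
    obtain ⟨c, hc⟩ := exists_sub_mem_map_comp hequiv hS₀ hR₀ r x hx m hm hinj 1 f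
    rw [show f = algebraMap S R c + (f - algebraMap S R c) by ring]
    refine add_mem (Submodule.mem_sup_left ⟨algebraMap S Ws c, rfl⟩) (Submodule.mem_sup_right ?_)
    rw [Ideal.smul_top_eq_map, Submodule.restrictScalars_mem, Ideal.map_map]
    exact Ideal.map_mono (comp_one_le s n) hc
  have hle : (⊤ : Submodule Ws (R ⧸ M)) ≤ I • ⊤ := by
    have := congrArg (Submodule.map M.mkQ) hsurj
    rw [Submodule.map_sup, Submodule.map_smul'', Submodule.map_top, Submodule.range_mkQ,
      Submodule.mkQ_map_self, bot_sup_eq] at this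
    exact this.ge
  obtain ⟨w, hw, hw0⟩ := Submodule.exists_sub_one_mem_and_smul_eq_zero_of_fg_of_le_smul I ⊤
    Module.Finite.fg_top hle
  have hwW : ∀ c : R, (w : R) * c ∈ invSpan k A S R := fun c => by
    obtain ⟨d, hd⟩ := (Submodule.Quotient.mk_eq_zero M).1
      (show Submodule.Quotient.mk (w • c) = (0 : R ⧸ M) from hw0 (Submodule.Quotient.mk c) trivial)
    rw [show (w : R) * c = w • c from rfl, ← hd]
    exact d.2
  have hcsW : CS A ((invSpan k A S R).restrictScalars k) := by
    intro v hv φ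
    rw [Submodule.restrictScalars_mem] at hv ⊢
    have : ∀ s : S, coef φ (algebraMap S R s * v) ∈ invSpan k A S R := by
      induction hv using Submodule.span_induction with
      | mem f hf =>
        intro s
        rw [coef_mul_invariant φ _ hf, show algebraMap S R s = ι s from rfl, ← coef_map ι hequiv,
          show ι (coef φ s) * f = coef φ s • f from (Algebra.smul_def _ _).symm]
        exact Submodule.smul_mem _ _ (Submodule.subset_span hf)
      | zero => simp
      | add p q _ _ hp hq => exact fun s => by rw [mul_add, map_add]; exact add_mem (hp s) (hq s)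
      | smul a p _ hp => exact fun s => by rw [Algebra.smul_def, ← mul_assoc, ← map_mul]; exact hp (s * a)
    simpa using this 1
  have hu : ((w : R) - 1) ∈ n.map (algebraMap R₀ R) := by
    have h1 := Ideal.mem_map_of_mem Ws.val hw
    simp only [I] at h1
    rw [show Ideal.map Ws.val (Ideal.map ν n) = n.map (algebraMap R₀ R) from Ideal.map_map _ _] at h1
    simpa using h1
  obtain ⟨b, hb⟩ := exists_reynolds_eq j hR₀ r (w : R)
  obtain ⟨e, he, hew⟩ := exists_reynolds_map j hR₀ r hu
  refine ⟨b, fun hbn => ?_, fun c => ?_⟩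
  · have h1 : algebraMap R₀ R (b - e) = 1 := by
      show j (b - e) = 1
      rw [map_sub, hb, hew, map_sub, Comod.reynolds_of_mem r (one_mem (GLin.invariants k A R)), sub_sub_cancel]
    have h2 : b - e ∈ n := sub_mem hbn he
    rw [Ideal.mem_comap, h1] at h2
    exact (Ideal.ne_top_iff_one m).1 (Ideal.IsMaximal.ne_top inferInstance) h2
  · have e1 : algebraMap R₀ R b = coef r.toFun (w : R) := hb
    rw [e1]
    exact cs_colon (AlgHom.id k R) (fun t => by rw [Algebra.TensorProduct.map_id]; rfl) hcsW cs_top (w : R)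
      (fun t _ => hwW t) r.toFun c trivial

include hequiv hS₀i hS₀ hR₀i hR₀ r in
/-- The kernel of the comparison is killed by an invariant avoiding the point. -/
theorem exists_mul_ker_eq_zero [Algebra.FiniteType S₀ R₀]
    (hy : GLin.IsClosedOrbit k A (x.comp (IsScalarTower.toAlgHom k S R)))
    (m : Ideal R) [m.IsMaximal] (hm : m = RingHom.ker x.toRingHom) [Algebra.IsEtaleAt S m]
    (het₀ : haveI := isMaximal_comap (R₀ := R₀) x m hm
      Algebra.IsEtaleAt S₀ (Ideal.comap (algebraMap R₀ R) m)) :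
    ∃ b : R₀, b ∉ Ideal.comap (algebraMap R₀ R) m ∧ ∀ z : S ⊗[S₀] R₀,
      Algebra.TensorProduct.productMap (IsScalarTower.toAlgHom S₀ S R) (IsScalarTower.toAlgHom S₀ R₀ R) z = 0 →
        ((1 : S) ⊗ₜ[S₀] b) * z = 0 := by
  classical
  let n : Ideal R₀ := Ideal.comap (algebraMap R₀ R) m
  let s : Ideal S₀ := basePt (S := S) (S₀ := S₀) x
  haveI : s.IsMaximal := isMaximal_ker _
  haveI : n.IsMaximal := isMaximal_comap x m hm
  haveI : n.LiesOver s := liesOver_basePt x m hm
  haveI := het₀
  haveI := isScalarTower_invariants k S R (S₀ := S₀) (R₀ := R₀) hR₀i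
  haveI : IsNoetherianRing S := Algebra.FiniteType.isNoetherianRing k S
  haveI : IsNoetherianRing S₀ := isNoetherianRing_invariants (IsScalarTower.toAlgHom k S₀ S) hS₀ r hS₀i
  haveI : IsNoetherianRing R₀ := Algebra.FiniteType.isNoetherianRing S₀ R₀
  haveI : Algebra.FiniteType S R := Algebra.FiniteType.of_restrictScalars_finiteType k S R
  haveI : Algebra.FinitePresentation S R := Algebra.FinitePresentation.of_finiteType.mp inferInstance
  let C := Localization.AtPrime n
  letI := Localization.AtPrime.algebraOfLiesOver s n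
  have hmax : s.map (algebraMap S₀ C) = IsLocalRing.maximalIdeal C :=
    ((Algebra.isUnramifiedAt_iff_map_eq S₀ s n).1 inferInstance).2
  let z₀ : R₀ →ₐ[k] k := x.comp (IsScalarTower.toAlgHom k R₀ R)
  have hz₀ : ∀ b, b ∈ n ↔ z₀ b = 0 := fun b => by
    show algebraMap R₀ R b ∈ m ↔ _
    rw [hm]; rfl
  -- every element of the local ring is a scalar modulo the base point
  have hres : ∀ c : C, ∃ a : S₀, c - algebraMap S₀ C a ∈ s.map (algebraMap S₀ C) := by
    intro c
    obtain ⟨b, f, rfl⟩ := IsLocalization.exists_mk'_eq n.primeCompl c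
    have hf : z₀ f ≠ 0 := fun h => f.2 ((hz₀ f).2 h)
    refine ⟨algebraMap k S₀ (z₀ b / z₀ f), ?_⟩
    rw [hmax, ← Ideal.unit_mul_mem_iff_mem _ (IsLocalization.map_units C f), mul_sub,
      IsLocalization.mk'_spec'_mk C b (f : R₀) f.2, IsScalarTower.algebraMap_apply S₀ R₀ C, ← map_mul, ← map_sub,
      IsLocalization.AtPrime.to_map_mem_maximal_iff C n, hz₀, map_sub, map_mul,
      ← IsScalarTower.algebraMap_apply k S₀ R₀, AlgHom.commutes, Algebra.algebraMap_self_apply,
      mul_div_cancel₀ _ hf, sub_self]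
  have hpow : ∀ N, ∀ v ∈ (s ^ N).map (algebraMap S₀ C),
      ∃ a ∈ s ^ N, v - algebraMap S₀ C a ∈ (s ^ (N + 1)).map (algebraMap S₀ C) := by
    intro N v hv
    have : ∀ c : C, ∃ a ∈ s ^ N, c * v - algebraMap S₀ C a ∈ (s ^ (N + 1)).map (algebraMap S₀ C) := by
      induction hv using Submodule.span_induction with
      | mem v hv =>
        obtain ⟨q, hq, rfl⟩ := hv
        intro c
        obtain ⟨a, ha⟩ := hres c
        refine ⟨a * q, Ideal.mul_mem_left _ a hq, ?_⟩
        rw [map_mul, ← sub_mul, pow_succ', Ideal.map_mul]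
        exact Ideal.mul_mem_mul ha (Ideal.mem_map_of_mem _ hq)
      | zero => exact fun c => ⟨0, zero_mem _, by simp⟩
      | add p q _ _ hp hq =>
        intro c
        obtain ⟨a, ha, hpa⟩ := hp c
        obtain ⟨b, hb, hqb⟩ := hq c
        exact ⟨a + b, add_mem ha hb, by rw [mul_add, map_add, add_sub_add_comm]; exact add_mem hpa hqb⟩
      | smul t p _ hp => exact fun c => by rw [smul_eq_mul, ← mul_assoc]; exact hp (c * t)
    simpa using this 1
  have htr : ∀ N, ∀ b : R₀, ∃ a : S₀, b - algebraMap S₀ R₀ a ∈ comp s n N := by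
    intro N
    induction N with
    | zero =>
      intro b
      exact ⟨0, by simp [comp, Ideal.map_top]⟩
    | succ N ih =>
      intro b
      obtain ⟨a, ha⟩ := ih b
      obtain ⟨a', -, ha'⟩ := hpow N _ (Ideal.mem_comap.1 ha)
      refine ⟨a + a', ?_⟩
      rw [comp, Ideal.mem_comap, map_add, ← sub_sub, map_sub, ← IsScalarTower.algebraMap_apply S₀ R₀ C]
      exact ha'
  have hcn : ∀ N, comp s n N ≤ n ^ N := by
    intro N a ha
    obtain ⟨f, hf, hfa⟩ := exists_notMem_mul_of_mem_comp s n ha
    have hle : (s ^ N).map (algebraMap S₀ R₀) ≤ n ^ N := by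
      rw [Ideal.map_pow]
      exact Ideal.pow_right_mono (Ideal.map_le_iff_le_comap.2 (n.over_def s).le) N
    have htop : n ^ N ⊔ Ideal.span {f} = ⊤ :=
      Ideal.pow_sup_eq_top (Ideal.IsMaximal.out.2 _ (left_lt_sup.2 fun h => hf (h (Ideal.mem_span_singleton_self f))))
    obtain ⟨u, hu, v, hv, huv⟩ := Submodule.mem_sup.1 ((Ideal.eq_top_iff_one _).1 htop)
    obtain ⟨w, rfl⟩ := Ideal.mem_span_singleton.1 hv
    rw [show a = u * a + w * (f * a) by linear_combination (-a) * huv]
    exact add_mem (Ideal.mul_mem_right _ _ hu) (Ideal.mul_mem_left _ _ (hle hfa))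
  let T := S ⊗[S₀] R₀
  let Φ := Algebra.TensorProduct.productMap (IsScalarTower.toAlgHom S₀ S R) (IsScalarTower.toAlgHom S₀ R₀ R)
  let jT : R₀ →ₐ[k] T := incRight R₀
  have hΦl : ∀ σ : S, Φ (σ ⊗ₜ 1) = algebraMap S R σ := fun σ => by simp [Φ]
  have hΦr : ∀ b : R₀, Φ (1 ⊗ₜ b) = algebraMap R₀ R b := fun b => by simp [Φ]
  have hdec : ∀ N (z : T), ∃ σ : S, z - σ ⊗ₜ[S₀] (1 : R₀) ∈ (comp s n N).map jT := by
    intro N z
    induction z using TensorProduct.induction_on with
    | zero => exact ⟨0, by simp⟩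
    | add a b ha hb =>
      obtain ⟨σ, hσ⟩ := ha
      obtain ⟨τ, hτ⟩ := hb
      exact ⟨σ + τ, by rw [TensorProduct.add_tmul, add_sub_add_comm]; exact add_mem hσ hτ⟩
    | tmul σ b =>
      obtain ⟨a, ha⟩ := htr N b
      refine ⟨σ * algebraMap S₀ S a, ?_⟩
      have e : σ ⊗ₜ[S₀] b - (σ * algebraMap S₀ S a) ⊗ₜ[S₀] (1 : R₀) = (σ ⊗ₜ[S₀] (1 : R₀)) * jT (b - algebraMap S₀ R₀ a) := by
        rw [mul_comm σ, ← Algebra.smul_def, TensorProduct.smul_tmul, ← Algebra.algebraMap_eq_smul_one,
          ← TensorProduct.tmul_sub]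
        show _ = (σ ⊗ₜ[S₀] (1 : R₀)) * ((1 : S) ⊗ₜ[S₀] (b - algebraMap S₀ R₀ a))
        rw [Algebra.TensorProduct.tmul_mul_tmul, mul_one, one_mul]
      rw [e]
      exact Ideal.mul_mem_left _ _ (Ideal.mem_map_of_mem _ ha)
  let K : Ideal T := RingHom.ker Φ
  have hKN : ∀ N, K ≤ (n.map jT) ^ N := by
    intro N z hz
    obtain ⟨σ, hσ⟩ := hdec N z
    have h1 : algebraMap S R σ ∈ (comp s n N).map (algebraMap R₀ R) := by
      have h2 := Ideal.mem_map_of_mem Φ.toRingHom hσ
      rw [show Ideal.map Φ.toRingHom (Ideal.map jT (comp s n N)) = (comp s n N).map (algebraMap R₀ R) from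
        (Ideal.map_map _ _).trans (congrArg (fun f => Ideal.map f _) (RingHom.ext hΦr)),
        show Φ.toRingHom (z - σ ⊗ₜ[S₀] (1 : R₀)) = -algebraMap S R σ by
          show Φ (z - σ ⊗ₜ[S₀] (1 : R₀)) = _
          rw [map_sub, hΦl, show Φ z = 0 from hz, zero_sub]] at h2
      exact neg_mem_iff.1 h2
    have hσN : σ ∈ (s ^ N).map (algebraMap S₀ S) :=
      (comap_comp_le hequiv hS₀i hS₀ hR₀ r x hy m hm N 0 (by rw [map_zero]; exact zero_mem _)).2 σ h1
    have h3 : σ ⊗ₜ[S₀] (1 : R₀) ∈ (comp s n N).map jT := by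
      have := Ideal.mem_map_of_mem (Algebra.TensorProduct.includeLeft : S →ₐ[S₀] T).toRingHom hσN
      rw [Ideal.map_map, show ((Algebra.TensorProduct.includeLeft : S →ₐ[S₀] T).toRingHom.comp (algebraMap S₀ S)) =
        jT.toRingHom.comp (algebraMap S₀ R₀) from RingHom.ext fun a =>
          ((Algebra.TensorProduct.includeLeft : S →ₐ[S₀] T).commutes a).trans
            ((Algebra.TensorProduct.includeRight : R₀ →ₐ[S₀] T).commutes a).symm, ← Ideal.map_map] at this
      exact Ideal.map_mono (map_pow_le_comp s n N) this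
    have h4 : z ∈ (comp s n N).map jT := by
      have := add_mem hσ h3
      rwa [sub_add_cancel] at this
    rw [← Ideal.map_pow]
    exact Ideal.map_mono (hcn N) h4
  haveI : IsNoetherianRing T := by
    haveI : Algebra.FiniteType S T := inferInstance
    exact Algebra.FiniteType.isNoetherianRing S T
  obtain ⟨gs, hgs⟩ := IsNoetherian.noetherian K
  have hkill : ∀ z ∈ K, ∃ u ∈ n.map jT, (1 - u) * z = 0 := by
    intro z hz
    obtain ⟨u, hu⟩ := (Ideal.mem_iInf_smul_pow_eq_bot_iff (n.map jT) z).1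
      ((Submodule.mem_iInf _).2 fun N => by rw [smul_eq_mul, Ideal.mul_top]; exact hKN N hz)
    exact ⟨u, u.2, by rw [sub_mul, one_mul, show (u : T) * z = z from hu, sub_self]⟩
  have hall : ∀ (t : Finset T), (∀ z ∈ t, z ∈ K) → ∃ u ∈ n.map jT, ∀ z ∈ t, (1 - u) * z = 0 := by
    intro t
    induction t using Finset.induction with
    | empty => exact fun _ => ⟨0, zero_mem _, by simp⟩
    | insert a t _ ih =>
      intro ht
      obtain ⟨u, hu, hut⟩ := ih fun z hz => ht z (Finset.mem_insert_of_mem hz)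
      obtain ⟨v, hv, hva⟩ := hkill a (ht a (Finset.mem_insert_self _ _))
      refine ⟨u + v - u * v, sub_mem (add_mem hu hv) (Ideal.mul_mem_left _ u hv), fun z hz => ?_⟩
      rw [show (1 - (u + v - u * v)) = (1 - u) * (1 - v) by ring]
      rcases Finset.mem_insert.1 hz with rfl | hz
      · rw [mul_assoc, hva, mul_zero]
      · rw [mul_comm (1 - u), mul_assoc, hut z hz, mul_zero]
  obtain ⟨u, hu, hut⟩ := hall gs fun z hz => hgs ▸ Submodule.subset_span hz
  have hKu : ∀ z ∈ K, (1 - u) * z = 0 := fun z hz => by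
    have : Submodule.span T (gs : Set T) ≤ LinearMap.ker (LinearMap.mulLeft T (1 - u)) := Submodule.span_le.2 hut
    exact this (hgs.symm ▸ hz)
  letI := tensorComod A hS₀ R₀
  haveI := tensor_isCoactAlg (A := A) hS₀ R₀
  have hjT : jT.range = GLin.invariants k A T := range_incRight_eq_invariants hS₀ R₀ r
  let Φk : T →ₐ[k] R :=
    { Φ.toRingHom with
      commutes' := fun c => by
        show Φ ((algebraMap k S c) ⊗ₜ 1) = _
        rw [hΦl, ← IsScalarTower.algebraMap_apply] }
  have hΦeq : ∀ z : T, HopfRep.Comod.coact (k := k) (A := A) (Φk z) =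
      Algebra.TensorProduct.map Φk (AlgHom.id k A) (HopfRep.Comod.coact (k := k) (A := A) z) := by
    intro z
    have e : (GLin.coactAlgHom k A R).comp Φk = (Algebra.TensorProduct.map Φk (AlgHom.id k A)).comp (tensorCoact A hS₀ R₀) := by
      refine algHom_ext_tensor R₀ _ _ (fun σ => ?_) (fun b => ?_)
      · show HopfRep.Comod.coact (k := k) (A := A) (Φ (σ ⊗ₜ 1)) = Algebra.TensorProduct.map Φk (AlgHom.id k A) (tensorCoact A hS₀ R₀ (σ ⊗ₜ 1))
        rw [hΦl, hequiv, tensorCoact_left, GLin.coactAlgHom_apply]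
        generalize HopfRep.Comod.coact (k := k) (A := A) σ = t
        induction t using TensorProduct.induction_on with
        | zero => simp
        | tmul p q =>
          rw [Algebra.TensorProduct.map_tmul, Algebra.TensorProduct.map_tmul, Algebra.TensorProduct.map_tmul]
          exact congrArg (· ⊗ₜ[k] _) (hΦl p).symm
        | add p q hp hq => simp only [map_add, hp, hq]
      · show HopfRep.Comod.coact (k := k) (A := A) (Φ (1 ⊗ₜ b)) = Algebra.TensorProduct.map Φk (AlgHom.id k A) (tensorCoact A hS₀ R₀ (1 ⊗ₜ b))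
        rw [hΦr, tensorCoact_right, Algebra.TensorProduct.map_tmul]
        refine (mem_invariants_map (IsScalarTower.toAlgHom k R₀ R) hR₀ b).trans ?_
        exact congrArg (· ⊗ₜ[k] _) (hΦr b).symm
    exact AlgHom.congr_fun e z
  have hKcs : CS A (K.restrictScalars k) := fun z hz φ => by
    show Φk (coef φ z) = 0
    rw [coef_map Φk hΦeq, show Φk z = 0 from hz, map_zero]
  obtain ⟨e, he, hej⟩ := exists_reynolds_map jT hjT r hu
  refine ⟨1 - e, fun h => ?_, fun z hz => ?_⟩
  · have h2 := add_mem h he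
    rw [sub_add_cancel] at h2
    exact (Ideal.ne_top_iff_one n).1 (Ideal.IsMaximal.ne_top inferInstance) h2
  · have h1 : jT (1 - e) = coef r.toFun (1 - u) := by
      rw [map_sub, hej, map_one, reynolds_eq_coef, map_sub,
        coef_invariant r.toFun (one_mem (GLin.invariants k A T)), r.one, one_smul]
    have hbot : CS A (⊥ : Submodule k T) := fun c hc φ => by
      rw [(Submodule.mem_bot k).1 hc, map_zero]; exact zero_mem _
    have h2 := cs_colon (AlgHom.id k T) (fun t => by rw [Algebra.TensorProduct.map_id]; rfl) hbot hKcs (1 - u)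
      (fun t ht => (Submodule.mem_bot k).2 (hKu t ht)) r.toFun z hz
    show jT (1 - e) * z = 0
    rw [h1]
    exact (Submodule.mem_bot k).1 h2

section Descend

variable {L : Type u} [CommRing L] [Algebra k L] [HopfRep.Comod k A L] [GLin.IsCoactAlg k A L]
variable [Algebra S L] [IsScalarTower k S L] (j : R →ₐ[S] L) (hj : ∀ v : R, HopfRep.Comod.coact (k := k) (A := A) (j v) =
  Algebra.TensorProduct.map (j.restrictScalars k) (AlgHom.id k A) (HopfRep.Comod.coact (k := k) (A := A) v))


include hj r in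
/-- Descending conductors along a map bijective after inverting an invariant. -/
theorem exists_pow_mul_mem_invSpan (f : R) (hf : f ∈ GLin.invariants k A R) (hA : AwayIso j.toRingHom f)
    (ε : R) (hε : ε ∈ GLin.invariants k A R) (h : ∀ v : L, ∃ N : ℕ, j ε ^ N * v ∈ invSpan k A S L) (v : R) :
    ∃ N : ℕ, (ε * f) ^ N * v ∈ invSpan k A S R := by
  have hcl : ∀ z ∈ invSpan k A S L, ∃ (K : ℕ) (w : R), w ∈ invSpan k A S R ∧ j w = j f ^ K * z := by
    intro z hz
    induction hz using Submodule.span_induction with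
    | mem z hz =>
      obtain ⟨K, c, hc⟩ := hA.surj z
      replace hc : j c = j f ^ K * z := hc
      refine ⟨K, coef r.toFun c, Submodule.subset_span (Comod.reynolds_mem r c), ?_⟩
      have e := coef_map (j.restrictScalars k) hj r.toFun c
      rw [AlgHom.restrictScalars_apply, AlgHom.restrictScalars_apply] at e
      rw [e, hc, coef_invariant, r.one, one_smul]
      exact mul_mem (pow_mem (map_mem_invariants (j.restrictScalars k) hj hf) K) hz
    | zero => exact ⟨0, 0, zero_mem _, by simp⟩
    | add p q _ _ hp hq =>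
      obtain ⟨K, w, hw, hwp⟩ := hp
      obtain ⟨K', w', hw', hwq⟩ := hq
      refine ⟨K + K', f ^ K' * w + f ^ K * w', add_mem (mul_mem_invSpan (pow_mem hf K') hw)
        (mul_mem_invSpan (pow_mem hf K) hw'), ?_⟩
      simp only [map_add, map_mul, map_pow, hwp, hwq, pow_add]
      ring
    | smul a p _ hp =>
      obtain ⟨K, w, hw, hwp⟩ := hp
      exact ⟨K, a • w, Submodule.smul_mem _ a hw, by rw [map_smul, hwp, mul_smul_comm]⟩
  obtain ⟨N, hN⟩ := h (j v)
  obtain ⟨K, w, hw, hwz⟩ := hcl _ hN
  obtain ⟨M, hM⟩ := hA.ker (f ^ K * ε ^ N * v - w) (by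
    show j (f ^ K * ε ^ N * v - w) = 0
    rw [map_sub, hwz, map_mul, map_mul, map_pow, map_pow, mul_assoc, sub_self])
  refine ⟨N + K + M, ?_⟩
  rw [mul_sub, sub_eq_zero] at hM
  rw [show (ε * f) ^ (N + K + M) * v = (ε ^ (K + M) * f ^ N) * (f ^ M * (f ^ K * ε ^ N * v)) by
    rw [mul_pow]; ring, hM]
  exact mul_mem_invSpan (mul_mem (pow_mem hε _) (pow_mem hf _)) (mul_mem_invSpan (pow_mem hf _) hw)

end Descend

end Groth.Agent.LunaEt
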