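import Groth.Agent.LunaEt.Orbit
import Groth.Agent.LunaEt.Cart
import Groth.Agent.S19403
import Mathlib.AlgebraicGeometry.PullbackCarrier

/-!
Luna's fundamental lemma.
-/
set_option autoImplicit false
set_option linter.unusedSectionVars false
set_option maxHeartbeats 2000000
set_option synthInstance.maxHeartbeats 200000
universe u
open TensorProduct
noncomputable section

namespace Groth.Agent.LunaEt

theorem exists_prime_of_awayIso {B L : Type u} [CommRing B] [CommRing L] (i : B →+* L) (b : B)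
    (h : AwayIso i b) (p : Ideal B) [p.IsPrime] (hb : b ∉ p) :
    ∃ Q : Ideal L, Q.IsPrime ∧ i b ∉ Q ∧ Q.comap i = p := by
  let Bb := Localization.Away b
  let Lb := Localization.Away (i b)
  let ψ : Bb →+* Lb := Localization.awayMap i b
  have hψ : ∀ c, ψ (algebraMap B Bb c) = algebraMap L Lb (i c) := fun c => IsLocalization.map_eq _ c
  have hs : Function.Surjective ψ := by
    intro z
    obtain ⟨v, ⟨_, m, rfl⟩, rfl⟩ := IsLocalization.exists_mk'_eq (Submonoid.powers (i b)) z
    obtain ⟨N, c, hc⟩ := h.surj v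
    refine ⟨IsLocalization.mk' Bb c (⟨b ^ (N + m), N + m, rfl⟩ : Submonoid.powers b), ?_⟩
    rw [IsLocalization.eq_mk'_iff_mul_eq]
    have hu : IsUnit (algebraMap L Lb (i b)) := IsLocalization.Away.algebraMap_isUnit (i b)
    apply (hu.pow N).mul_left_cancel
    have e := congrArg ψ (IsLocalization.mk'_spec Bb c (⟨b ^ (N + m), N + m, rfl⟩ : Submonoid.powers b))
    simp only [map_mul, hψ, map_pow, hc, pow_add] at e ⊢
    linear_combination e
  have hi : Function.Injective ψ := by
    rw [injective_iff_map_eq_zero]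
    intro z hz
    obtain ⟨c, ⟨_, m, rfl⟩, rfl⟩ := IsLocalization.exists_mk'_eq (Submonoid.powers b) z
    have h0 : algebraMap L Lb (i c) = 0 := by
      rw [← hψ, ← IsLocalization.mk'_spec Bb c (⟨b ^ m, m, rfl⟩ : Submonoid.powers b), map_mul, hz, zero_mul]
    obtain ⟨⟨_, K, rfl⟩, hK⟩ := (IsLocalization.map_eq_zero_iff (Submonoid.powers (i b)) Lb _).1 h0
    obtain ⟨N, hN⟩ := h.ker (b ^ K * c) (by rw [map_mul, map_pow]; exact hK)
    rw [IsLocalization.mk'_eq_zero_iff]
    exact ⟨⟨b ^ (N + K), N + K, rfl⟩, show b ^ (N + K) * c = 0 by rw [pow_add, mul_assoc]; exact hN⟩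
  obtain ⟨q, hq⟩ : (⟨p, inferInstance⟩ : PrimeSpectrum B) ∈ Set.range (PrimeSpectrum.comap (algebraMap B Bb)) := by
    rw [PrimeSpectrum.localization_away_comap_range Bb b]
    exact hb
  let e := RingEquiv.ofBijective ψ ⟨hi, hs⟩
  refine ⟨(q.asIdeal.comap e.symm.toRingHom).comap (algebraMap L Lb), inferInstance, fun hh => ?_, ?_⟩
  · exact (q.asIdeal.comap e.symm.toRingHom).ne_top_iff_one.1 Ideal.IsPrime.ne_top'
      ((Ideal.eq_top_of_isUnit_mem _ (show algebraMap L Lb (i b) ∈ q.asIdeal.comap e.symm.toRingHom from hh)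
        (IsLocalization.Away.algebraMap_isUnit (i b))) ▸ Submodule.mem_top)
  · ext c
    rw [show p = q.asIdeal.comap (algebraMap B Bb) from (congrArg PrimeSpectrum.asIdeal hq).symm]
    simp only [Ideal.mem_comap]
    rw [← hψ, show e.symm.toRingHom (ψ (algebraMap B Bb c)) = algebraMap B Bb c from e.symm_apply_apply _]

open CategoryTheory Limits AlgebraicGeometry in
theorem exists_prime_tensor (R S T : Type u) [CommRing R] [CommRing S] [CommRing T] [Algebra R S] [Algebra R T]
    (p : PrimeSpectrum S) (q : PrimeSpectrum T)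
    (h : PrimeSpectrum.comap (algebraMap R S) p = PrimeSpectrum.comap (algebraMap R T) q) :
    ∃ w : PrimeSpectrum (S ⊗[R] T), PrimeSpectrum.comap (algebraMap S (S ⊗[R] T)) w = p ∧
      PrimeSpectrum.comap (Algebra.TensorProduct.includeRight : T →ₐ[R] S ⊗[R] T).toRingHom w = q := by
  obtain ⟨z, hz, hz'⟩ := Scheme.Pullback.exists_preimage_pullback
    (f := Spec.map (CommRingCat.ofHom (algebraMap R S))) (g := Spec.map (CommRingCat.ofHom (algebraMap R T))) p q h
  refine ⟨(pullbackSpecIso R S T).hom z, Eq.trans ?_ hz, Eq.trans ?_ hz'⟩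
  · rw [← pullbackSpecIso_hom_fst R S T, Scheme.Hom.comp_apply]
    rfl
  · rw [← pullbackSpecIso_hom_snd R S T, Scheme.Hom.comp_apply]
    rfl

variable {k : Type u} [Field k] [IsAlgClosed k] [CharZero k]
variable {A : Type u} [CommRing A] [HopfAlgebra k A] [Algebra.FiniteType k A]

theorem orbitHom_of_mem_invariants {R : Type u} [CommRing R] [Algebra k R] [HopfRep.Comod k A R]
    [GLin.IsCoactAlg k A R] (x : R →ₐ[k] k) {f : R} (hf : f ∈ GLin.invariants k A R) :
    GLin.orbitHom k A x f = algebraMap k A (x f) := by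
  show (Algebra.TensorProduct.lid k A).toAlgHom (Algebra.TensorProduct.map x (AlgHom.id k A)
    (GLin.coactAlgHom k A R f)) = _
  rw [show GLin.coactAlgHom k A R f = f ⊗ₜ[k] (1 : A) from hf]
  simp [Algebra.smul_def]

variable {S : Type u} [CommRing S] [Algebra k S] [Algebra.FiniteType k S] [HopfRep.Comod k A S] [GLin.IsCoactAlg k A S]
variable {R : Type u} [CommRing R] [Algebra k R] [Algebra.FiniteType k R] [HopfRep.Comod k A R] [GLin.IsCoactAlg k A R]
variable [Algebra S R] [IsScalarTower k S R]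
variable (hequiv : ∀ s : S, HopfRep.Comod.coact (k := k) (A := A) (algebraMap S R s) =
  Algebra.TensorProduct.map (IsScalarTower.toAlgHom k S R) (AlgHom.id k A) (HopfRep.Comod.coact (k := k) (A := A) s))
variable {S₀ : Type u} [CommRing S₀] [Algebra k S₀] [Algebra S₀ S] [IsScalarTower k S₀ S]
variable (hS₀i : Function.Injective (algebraMap S₀ S))
variable (hS₀ : (IsScalarTower.toAlgHom k S₀ S).range = GLin.invariants k A S)
variable {R₀ : Type u} [CommRing R₀] [Algebra k R₀] [Algebra R₀ R] [IsScalarTower k R₀ R]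
variable (hR₀i : Function.Injective (algebraMap R₀ R))
variable (hR₀ : (IsScalarTower.toAlgHom k R₀ R).range = GLin.invariants k A R)
variable [Algebra S₀ R₀] [Algebra S₀ R] [IsScalarTower S₀ S R] [IsScalarTower S₀ R₀ R]

include hequiv hS₀i hS₀ hR₀i hR₀ in
/-- Etaleness of the invariants and the conductor at the point. -/
theorem exists_good (hG : HopfRep.IsLinearlyReductive k A) (x : R →ₐ[k] k) (m : Ideal R) [m.IsMaximal]
    (hm : m = RingHom.ker x.toRingHom) (het : Algebra.IsEtaleAt S m)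
    (hy : GLin.IsClosedOrbit k A (x.comp (IsScalarTower.toAlgHom k S R)))
    (hinj : ∀ g : A →ₐ[k] k, GLin.actPt k g (x.comp (IsScalarTower.toAlgHom k S R)) =
      x.comp (IsScalarTower.toAlgHom k S R) → GLin.actPt k g x = x) :
    (haveI := isMaximal_comap (R₀ := R₀) x m hm; Algebra.IsEtaleAt S₀ (Ideal.comap (algebraMap R₀ R) m)) ∧
    ∃ f₁ ε : R₀, x (algebraMap R₀ R f₁) ≠ 0 ∧ x (algebraMap R₀ R ε) ≠ 0 ∧
      (∀ (Q : Ideal R) [Q.IsPrime], algebraMap R₀ R f₁ ∉ Q → Algebra.IsEtaleAt S Q) ∧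
      ∀ v : R, ∃ N : ℕ, (algebraMap R₀ R ε * algebraMap R₀ R f₁) ^ N * v ∈ invSpan k A S R := by
  obtain ⟨r⟩ := Comod.nonempty_integral hG
  haveI := het
  subst hm
  let y : S →ₐ[k] k := x.comp (IsScalarTower.toAlgHom k S R)
  haveI : IsNoetherianRing S := Algebra.FiniteType.isNoetherianRing k S
  haveI : Algebra.FiniteType S R := Algebra.FiniteType.of_restrictScalars_finiteType k S R
  haveI : Algebra.FinitePresentation S R := Algebra.FinitePresentation.of_finiteType.mp inferInstance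
  haveI := isScalarTower_invariants k S R (S₀ := S₀) (R₀ := R₀) hR₀i
  have hx : GLin.IsClosedOrbit k A x :=
    isClosedOrbit_of_range_eq x y (range_orbitHom_eq hequiv x hy (RingHom.ker x.toRingHom) rfl hinj) hy
  -- the invariant neighbourhood of etaleness
  obtain ⟨J, hJcs, hJ⟩ := exists_cs_of_isOpen (R := R) (U := Algebra.etaleLocus S R) Algebra.isOpen_etaleLocus
    (fun z g hz => isEtaleAt_actPt hequiv z g hz)
  obtain ⟨b₁, hb₁, hxb₁, hJb₁⟩ := exists_invariant_of_cs r x hx hJcs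
    ((hJ ⟨RingHom.ker x.toRingHom, RingHom.ker_isPrime _⟩).1 het)
  have hf₁inv : (1 - b₁ : R) ∈ GLin.invariants k A R := sub_mem (one_mem _) hb₁
  let f : R := 1 - b₁
  have hxf : x f = 1 := by simp [f, hxb₁]
  have hetf : ∀ (Q : Ideal R) [Q.IsPrime], f ∉ Q → Algebra.IsEtaleAt S Q := fun Q _ hQ =>
    (hJ ⟨Q, inferInstance⟩).2 fun h => hQ (h hJb₁)
  let L := Localization.Away f
  letI := awayComod A f hf₁inv
  haveI := away_isCoactAlg (A := A) f hf₁inv
  haveI : Algebra.Etale S L := Algebra.basicOpen_subset_etaleLocus_iff_etale.1 fun Q hQ => hetf Q.asIdeal hQ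
  haveI : Algebra.FiniteType k L :=
    haveI : Algebra.FinitePresentation R L := IsLocalization.Away.finitePresentation f (S := L)
    haveI : Algebra.FiniteType R L := inferInstance
    Algebra.FiniteType.trans (S := R) inferInstance inferInstance
  let jL : R →ₐ[S] L := IsScalarTower.toAlgHom S R L
  have hjL : ∀ v : R, HopfRep.Comod.coact (k := k) (A := A) (jL v) =
      Algebra.TensorProduct.map (jL.restrictScalars k) (AlgHom.id k A) (HopfRep.Comod.coact (k := k) (A := A) v) :=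
    fun v => awayCoact_algebraMap f hf₁inv v
  have hequivL : ∀ s : S, HopfRep.Comod.coact (k := k) (A := A) (algebraMap S L s) =
      Algebra.TensorProduct.map (IsScalarTower.toAlgHom k S L) (AlgHom.id k A) (HopfRep.Comod.coact (k := k) (A := A) s) := by
    intro s
    rw [IsScalarTower.algebraMap_apply S R L]
    refine (hjL _).trans ?_
    rw [hequiv, ← AlgHom.comp_apply, ← Algebra.TensorProduct.map_comp, AlgHom.id_comp]
    congr 2
  obtain ⟨B, _, _, _, _, hBft, ψ, iB, hψ, hiB, hcomp, hψfin, hopen⟩ := Groth.Agent.S19403.result k A hG S L hequivL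
  haveI := hBft
  letI : Algebra S B := ψ.toRingHom.toAlgebra
  haveI : IsScalarTower k S B := IsScalarTower.of_algebraMap_eq fun c => (ψ.commutes c).symm
  haveI : Module.Finite S B := hψfin
  have hψa : IsScalarTower.toAlgHom k S B = ψ := AlgHom.ext fun s => rfl
  have hequivB : ∀ s : S, HopfRep.Comod.coact (k := k) (A := A) (algebraMap S B s) =
      Algebra.TensorProduct.map (IsScalarTower.toAlgHom k S B) (AlgHom.id k A) (HopfRep.Comod.coact (k := k) (A := A) s) := by
    intro s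
    rw [hψa]
    exact hψ s
  let iBS : B →ₐ[S] L := { iB.toRingHom with commutes' := fun s => AlgHom.congr_fun hcomp s }
  -- points
  have hxu : ∀ u : Submonoid.powers f, IsUnit (x (u : R)) := by
    rintro ⟨_, N, rfl⟩
    show IsUnit (x (f ^ N))
    rw [map_pow, hxf, one_pow]
    exact isUnit_one
  let x₁ : L →ₐ[k] k := IsLocalization.liftAlgHom (M := Submonoid.powers f) (f := x) hxu
  have hx₁ : ∀ v, x₁ (algebraMap R L v) = x v := fun v => IsLocalization.lift_eq _ _
  let xB : B →ₐ[k] k := x₁.comp iB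
  have hxBy : xB.comp (IsScalarTower.toAlgHom k S B) = y := AlgHom.ext fun s => by
    show x₁ (iB (ψ s)) = x (algebraMap S R s)
    rw [show iB (ψ s) = algebraMap R L (algebraMap S R s) from
      (AlgHom.congr_fun hcomp s).trans (IsScalarTower.algebraMap_apply S R L s), hx₁]
  let mB : Ideal B := RingHom.ker xB.toRingHom
  haveI : mB.IsMaximal := isMaximal_ker xB
  have hxB : GLin.IsClosedOrbit k A xB := (S19401.result k A S B hequivB xB).2 (by
    show GLin.IsClosedOrbit k A (xB.comp (IsScalarTower.toAlgHom k S B))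
    rw [hxBy]; exact hy)
  have hinjB : ∀ g : A →ₐ[k] k, GLin.actPt k g (xB.comp (IsScalarTower.toAlgHom k S B)) =
      xB.comp (IsScalarTower.toAlgHom k S B) → GLin.actPt k g xB = xB := by
    intro g hg
    rw [hxBy] at hg
    have h1 : GLin.actPt k g x₁ = x₁ := by
      refine IsLocalization.algHom_ext (Submonoid.powers f) (AlgHom.ext fun v => ?_)
      show g (GLin.orbitHom k A x₁ (jL.restrictScalars k v)) = x₁ (algebraMap R L v)
      rw [GLinFree.orbitHom_comp (jL.restrictScalars k) hjL x₁ v, hx₁,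
        show x₁.comp (jL.restrictScalars k) = x from AlgHom.ext hx₁]
      exact AlgHom.congr_fun (hinj g hg) v
    refine AlgHom.ext fun c => ?_
    show g (GLin.orbitHom k A (x₁.comp iB) c) = x₁ (iB c)
    rw [← GLinFree.orbitHom_comp iB hiB x₁ c]
    exact AlgHom.congr_fun h1 (iB c)
  -- the open image
  have hUopen : IsOpen (Set.range (PrimeSpectrum.comap iB.toRingHom)) := hopen.base_open.isOpen_range
  obtain ⟨JB, hJBcs, hJB⟩ := exists_cs_of_isOpen (A := A) (R := B) hUopen (fun z g hz => by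
    obtain ⟨q, hq⟩ := hz
    obtain ⟨M, hM, hqM⟩ := Ideal.exists_le_maximal q.asIdeal q.2.ne_top
    obtain ⟨w, rfl⟩ := GLinFree.exists_point_of_maximal (k := k) M
    have hw : z = w.comp iB := GLinFree.point_ext fun c hc => by
      have : iB c ∈ q.asIdeal := (congrArg PrimeSpectrum.asIdeal hq).symm.le hc
      exact hqM this
    refine ⟨⟨RingHom.ker (GLin.actPt k g w), RingHom.ker_isPrime _⟩, PrimeSpectrum.ext ?_⟩
    ext c
    show g (GLin.orbitHom k A w (iB c)) = 0 ↔ g (GLin.orbitHom k A z c) = 0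
    rw [GLinFree.orbitHom_comp iB hiB w c, hw])
  obtain ⟨b₀, hb₀, hxb₀, hJb₀⟩ := exists_invariant_of_cs r xB hxB hJBcs
    ((hJB ⟨RingHom.ker xB.toRingHom, RingHom.ker_isPrime _⟩).1 ⟨⟨RingHom.ker x₁.toRingHom, RingHom.ker_isPrime _⟩, rfl⟩)
  have hbinv : (1 - b₀ : B) ∈ GLin.invariants k A B := sub_mem (one_mem _) hb₀
  have hxbB : xB (1 - b₀) = 1 := by simp [hxb₀]
  have hAB : AwayIso iB.toRingHom (1 - b₀) :=
    awayIso_of_isOpenImmersion iB.toRingHom hopen (1 - b₀) fun p hp => (hJB p).2 fun h => hp (h hJb₀)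
  haveI : (RingHom.ker x₁.toRingHom).IsPrime := RingHom.ker_isPrime _
  haveI : Algebra.IsEtaleAt S (RingHom.ker x₁.toRingHom) := inferInstanceAs
    (Algebra.FormallyEtale S (Localization.AtPrime (RingHom.ker x₁.toRingHom)))
  haveI : Algebra.IsEtaleAt S mB :=
    (isEtaleAt_iff_of_awayIso iBS (1 - b₀) hAB (RingHom.ker x₁.toRingHom) (fun h => by
      have : x₁ (iB (1 - b₀)) = 0 := h
      rw [show x₁ (iB (1 - b₀)) = xB (1 - b₀) from rfl, hxbB] at this
      exact one_ne_zero this) mB rfl).2 inferInstance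
  -- invariants
  let B₀ := GLin.invariants k A B
  let L₀ := GLin.invariants k A L
  letI : Algebra S₀ B := ((algebraMap S B).comp (algebraMap S₀ S)).toAlgebra
  haveI : IsScalarTower S₀ S B := IsScalarTower.of_algebraMap_eq fun _ => rfl
  have hS₀inv : ∀ a : S₀, algebraMap S₀ S a ∈ GLin.invariants k A S := mem_invariants_map _ hS₀
  letI : Algebra S₀ B₀ := ((algebraMap S₀ B).codRestrict B₀ fun a =>
    map_mem_invariants ψ hψ (hS₀inv a)).toAlgebra
  haveI : IsScalarTower S₀ B₀ B := IsScalarTower.of_algebraMap_eq fun _ => rfl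
  letI : Algebra S₀ L₀ := ((algebraMap S₀ L).codRestrict L₀ fun a => by
    rw [IsScalarTower.algebraMap_apply S₀ R₀ R |> fun h => show algebraMap S₀ L a = jL (algebraMap R₀ R (algebraMap S₀ R₀ a)) by
      rw [← h]; exact IsScalarTower.algebraMap_apply S₀ R L a]
    exact map_mem_invariants (jL.restrictScalars k) hjL (mem_invariants_map _ hR₀ _)).toAlgebra
  haveI : IsScalarTower S₀ L₀ L := IsScalarTower.of_algebraMap_eq fun _ => rfl
  have hB₀i : Function.Injective (algebraMap B₀ B) := Subtype.val_injective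
  have hB₀r : (IsScalarTower.toAlgHom k B₀ B).range = GLin.invariants k A B := by
    ext c
    exact ⟨fun ⟨d, hd⟩ => hd ▸ d.2, fun hc => ⟨⟨c, hc⟩, rfl⟩⟩
  have hL₀r : L₀.val.range = GLin.invariants k A L := Subalgebra.range_val _
  haveI : Module.Finite S₀ B₀ := finite_invariants hequivB hS₀ hB₀i hB₀r r
  let nB : Ideal B₀ := Ideal.comap (algebraMap B₀ B) mB
  haveI : nB.IsMaximal := isMaximal_comap xB mB rfl
  have hetB : Algebra.IsEtaleAt S₀ nB :=
    isEtaleAt_invariants hequivB hS₀i hS₀ hB₀i hB₀r r xB hxB mB rfl inferInstance hinjB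
  obtain ⟨b', hb', hb'W⟩ := exists_mul_mem_invSpan hequivB hS₀ hB₀r r xB hxB mB rfl hinjB
  let i₀ : B₀ →ₐ[S₀] L₀ :=
    { (iB.toRingHom.comp (algebraMap B₀ B)).codRestrict L₀ fun c => map_mem_invariants iB hiB c.2 with
      commutes' := fun a => Subtype.ext ((AlgHom.congr_fun hcomp (algebraMap S₀ S a)).trans
        (IsScalarTower.algebraMap_apply S₀ S L a).symm) }
  let b : B₀ := ⟨1 - b₀, hbinv⟩
  have hA₀ : AwayIso i₀.toRingHom b :=
    awayIso_invariants iB hiB (IsScalarTower.toAlgHom k B₀ B) hB₀r hB₀i L₀.val hL₀r Subtype.val_injective r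
      i₀.toRingHom (fun _ => rfl) b hAB
  let nL : Ideal L₀ := RingHom.ker (x₁.comp L₀.val).toRingHom
  haveI : nL.IsPrime := RingHom.ker_isPrime _
  have hetL : Algebra.IsEtaleAt S₀ nL :=
    (isEtaleAt_iff_of_awayIso i₀ b hA₀ nL (fun h => by
      have : xB (1 - b₀) = 0 := h
      rw [hxbB] at this
      exact one_ne_zero this) nB rfl).1 hetB
  obtain ⟨f₁, hf₁⟩ := (hR₀.ge hf₁inv :)
  replace hf₁ : algebraMap R₀ R f₁ = f := hf₁
  let j₀ : R₀ →ₐ[S₀] L₀ :=
    { ((algebraMap R L).comp (algebraMap R₀ R)).codRestrict L₀ fun a =>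
        map_mem_invariants (jL.restrictScalars k) hjL (mem_invariants_map _ hR₀ a) with
      commutes' := fun a => Subtype.ext (by
        show algebraMap R L (algebraMap R₀ R (algebraMap S₀ R₀ a)) = algebraMap S₀ L a
        rw [← IsScalarTower.algebraMap_apply S₀ R₀ R, ← IsScalarTower.algebraMap_apply]) }
  have hAf : AwayIso (jL.restrictScalars k).toRingHom f := awayIso_algebraMap f
  have hAf₀ : AwayIso j₀.toRingHom f₁ :=
    awayIso_invariants (jL.restrictScalars k) hjL (IsScalarTower.toAlgHom k R₀ R) hR₀ hR₀i L₀.val hL₀r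
      Subtype.val_injective r j₀.toRingHom (fun _ => rfl) f₁ (by
        rw [IsScalarTower.coe_toAlgHom', hf₁]; exact hAf)
  haveI := isMaximal_comap (R₀ := R₀) x (RingHom.ker x.toRingHom) rfl
  have hetR : Algebra.IsEtaleAt S₀ (Ideal.comap (algebraMap R₀ R) (RingHom.ker x.toRingHom)) :=
    (isEtaleAt_iff_of_awayIso j₀ f₁ hAf₀ nL (fun h => by
      have : x₁ (algebraMap R L (algebraMap R₀ R f₁)) = 0 := h
      rw [hx₁, hf₁, hxf] at this
      exact one_ne_zero this) _ (by
        ext a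
        show x (algebraMap R₀ R a) = 0 ↔ x₁ (algebraMap R L (algebraMap R₀ R a)) = 0
        rw [hx₁])).2 hetL
  refine ⟨hetR, f₁, ?_⟩
  -- the conductor
  let gL : L := iB ((1 - b₀) * algebraMap B₀ B b')
  have hgLinv : gL ∈ GLin.invariants k A L := map_mem_invariants iB hiB (mul_mem hbinv b'.2)
  have hgL : ∀ v : L, ∃ N : ℕ, gL ^ N * v ∈ invSpan k A S L := by
    intro v
    obtain ⟨N, c, hc⟩ := hAB.surj v
    replace hc : iB c = iB (1 - b₀) ^ N * v := hc
    refine ⟨N + 1, ?_⟩
    have h1 : iBS.toLinearMap (algebraMap B₀ B b' * c) ∈ (invSpan k A S B).map iBS.toLinearMap :=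
      Submodule.mem_map_of_mem (hb'W c)
    have h2 : (invSpan k A S B).map iBS.toLinearMap ≤ invSpan k A S L := by
      rw [invSpan, Submodule.map_span, Submodule.span_le]
      rintro _ ⟨d, hd, rfl⟩
      exact Submodule.subset_span (map_mem_invariants iB hiB hd)
    have h3 := h2 h1
    rw [show iBS.toLinearMap (algebraMap B₀ B b' * c) = iB (algebraMap B₀ B b' * c) from rfl, map_mul, hc] at h3
    rw [show gL ^ (N + 1) * v = (iB (algebraMap B₀ B b') ^ N * iB (1 - b₀)) *
      (iB (algebraMap B₀ B b') * (iB (1 - b₀) ^ N * v)) by simp only [gL, map_mul, mul_pow]; ring]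
    exact mul_mem_invSpan (mul_mem (pow_mem (map_mem_invariants iB hiB b'.2) N) (map_mem_invariants iB hiB hbinv)) h3
  obtain ⟨M, a, ha⟩ := hAf.surj gL
  replace ha : jL a = jL f ^ M * gL := ha
  obtain ⟨ε, hε⟩ := exists_reynolds_eq (IsScalarTower.toAlgHom k R₀ R) hR₀ r a
  have hjε : jL (algebraMap R₀ R ε) = jL f ^ M * gL := by
    rw [show algebraMap R₀ R ε = coef r.toFun a from hε,
      show jL (coef r.toFun a) = (jL.restrictScalars k) (coef r.toFun a) from rfl, coef_map _ hjL,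
      show (jL.restrictScalars k) a = jL a from rfl, ha, coef_invariant, r.one, one_smul]
    exact mul_mem (pow_mem (map_mem_invariants (jL.restrictScalars k) hjL hf₁inv) M) hgLinv
  refine ⟨ε, by rw [hf₁, hxf]; exact one_ne_zero, ?_, fun Q _ hQ => hetf Q (hf₁ ▸ hQ), fun v => ?_⟩
  · rw [← hx₁, show algebraMap R L (algebraMap R₀ R ε) = jL f ^ M * gL from hjε, map_mul, map_pow,
      show x₁ (jL f) = x f from hx₁ f, hxf, one_pow, one_mul,
      show x₁ gL = xB ((1 - b₀) * algebraMap B₀ B b') from rfl, map_mul, hxbB, one_mul]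
    exact hb'
  · rw [hf₁]
    refine exists_pow_mul_mem_invSpan r jL hjL f hf₁inv hAf _ (mem_invariants_map _ hR₀ ε) (fun w => ?_) v
    obtain ⟨N, hN⟩ := hgL w
    exact ⟨N, by
      rw [show jL ((IsScalarTower.toAlgHom k R₀ R) ε) = jL f ^ M * gL from hjε, mul_pow, mul_assoc]
      exact mul_mem_invSpan (pow_mem (pow_mem (map_mem_invariants (jL.restrictScalars k) hjL hf₁inv) M) N) hN⟩

include hequiv hS₀i hS₀ hR₀i hR₀ in
theorem fundamental (hG : HopfRep.IsLinearlyReductive k A) (x : R →ₐ[k] k) (m : Ideal R) [m.IsMaximal]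
    (hm : m = RingHom.ker x.toRingHom) (het : Algebra.IsEtaleAt S m)
    (hy : GLin.IsClosedOrbit k A (x.comp (IsScalarTower.toAlgHom k S R)))
    (hinj : ∀ g : A →ₐ[k] k, GLin.actPt k g (x.comp (IsScalarTower.toAlgHom k S R)) =
      x.comp (IsScalarTower.toAlgHom k S R) → GLin.actPt k g x = x) :
    ∃ (f : R₀) (g : S₀), x (algebraMap R₀ R (f * algebraMap S₀ R₀ g)) ≠ 0 ∧
      (∀ P : Ideal S, P.IsPrime → algebraMap S₀ S g ∉ P → ∃ Q : Ideal R, Q.IsPrime ∧
        algebraMap R₀ R (f * algebraMap S₀ R₀ g) ∉ Q ∧ Q.comap (algebraMap S R) = P) ∧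
      (∀ (Q : Ideal R) [Q.IsPrime], algebraMap R₀ R (f * algebraMap S₀ R₀ g) ∉ Q → Algebra.IsEtaleAt S Q) ∧
      (∀ x' : R →ₐ[k] k, x' (algebraMap R₀ R (f * algebraMap S₀ R₀ g)) ≠ 0 → GLin.IsClosedOrbit k A x' →
        GLin.IsClosedOrbit k A (x'.comp (IsScalarTower.toAlgHom k S R))) ∧
      (∀ (q : Ideal R₀) [q.IsPrime], f * algebraMap S₀ R₀ g ∉ q → Algebra.IsEtaleAt S₀ q) ∧
      (∀ z : S ⊗[S₀] R₀, Algebra.TensorProduct.productMap (IsScalarTower.toAlgHom S₀ S R)
          (IsScalarTower.toAlgHom S₀ R₀ R) z = 0 →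
        ∃ n : ℕ, ((1 : S) ⊗ₜ[S₀] (f * algebraMap S₀ R₀ g)) ^ n * z = 0) ∧
      (∀ r : R, ∃ (n : ℕ) (z : S ⊗[S₀] R₀), Algebra.TensorProduct.productMap (IsScalarTower.toAlgHom S₀ S R)
          (IsScalarTower.toAlgHom S₀ R₀ R) z = algebraMap R₀ R (f * algebraMap S₀ R₀ g) ^ n * r) := by
  obtain ⟨r⟩ := Comod.nonempty_integral hG
  obtain ⟨hetR, f₁, ε, hf₁, hε, hetf, hsurj⟩ := exists_good hequiv hS₀i hS₀ hR₀i hR₀ hG x m hm het hy hinj
  haveI := het
  haveI := finiteType_invariants hequiv hS₀ hR₀i hR₀ hG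
  haveI := isScalarTower_invariants k S R (S₀ := S₀) (R₀ := R₀) hR₀i
  haveI : IsNoetherianRing S := Algebra.FiniteType.isNoetherianRing k S
  haveI : IsNoetherianRing S₀ := isNoetherianRing_invariants (IsScalarTower.toAlgHom k S₀ S) hS₀ r hS₀i
  haveI : Algebra.FinitePresentation S₀ R₀ := Algebra.FinitePresentation.of_finiteType.mp inferInstance
  let n : Ideal R₀ := Ideal.comap (algebraMap R₀ R) m
  haveI : n.IsMaximal := isMaximal_comap x m hm
  let s : Ideal S₀ := basePt (S := S) (S₀ := S₀) x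
  haveI : n.LiesOver s := liesOver_basePt x m hm
  haveI : Algebra.IsEtaleAt S₀ n := hetR
  obtain ⟨E, hE, hker⟩ := exists_mul_ker_eq_zero hequiv hS₀i hS₀ hR₀i hR₀ r x hy m hm hetR
  obtain ⟨f₃, hf₃, het₃⟩ := Algebra.exists_etale_of_isEtaleAt (R := S₀) n
  have hn : ∀ a, a ∈ n ↔ x (algebraMap R₀ R a) = 0 := fun a => by
    show algebraMap R₀ R a ∈ m ↔ _
    rw [hm]; rfl
  let f : R₀ := ε * f₁ * E * f₃
  have hfn : f ∉ n := fun h => by
    rcases Ideal.IsPrime.mem_or_mem inferInstance h with h | h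
    · rcases Ideal.IsPrime.mem_or_mem inferInstance h with h | h
      · rcases Ideal.IsPrime.mem_or_mem inferInstance h with h | h
        · exact hε ((hn _).1 h)
        · exact hf₁ ((hn _).1 h)
      · exact hE h
    · exact hf₃ h
  have het₀ : ∀ (q : Ideal R₀) [q.IsPrime], f₃ ∉ q → Algebra.IsEtaleAt S₀ q := fun q _ hq =>
    (Algebra.basicOpen_subset_etaleLocus_iff_etale.2 het₃) (show f₃ ∉ (⟨q, inferInstance⟩ : PrimeSpectrum R₀).asIdeal from hq)
  haveI : Algebra.Etale S₀ (Localization.Away f) := Algebra.basicOpen_subset_etaleLocus_iff_etale.1 fun q hq =>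
    het₀ q.asIdeal fun h => hq (Ideal.mul_mem_left _ _ h)
  have hopen := (PrimeSpectrum.isOpenMap_comap_of_hasGoingDown_of_finitePresentation
    (R := S₀) (S := Localization.Away f)).isOpen_range
  obtain ⟨_, ⟨g, rfl⟩, hgs, hgsub⟩ := PrimeSpectrum.isTopologicalBasis_basic_opens.exists_subset_of_mem_open
    (a := (⟨s, RingHom.ker_isPrime _⟩ : PrimeSpectrum S₀)) (by
      obtain ⟨q, hq⟩ : (⟨n, inferInstance⟩ : PrimeSpectrum R₀) ∈
          Set.range (PrimeSpectrum.comap (algebraMap R₀ (Localization.Away f))) := by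
        rw [PrimeSpectrum.localization_away_comap_range (Localization.Away f) f]
        exact hfn
      refine ⟨q, PrimeSpectrum.ext ?_⟩
      show q.asIdeal.comap (algebraMap S₀ (Localization.Away f)) = s
      rw [IsScalarTower.algebraMap_eq S₀ R₀ (Localization.Away f), ← Ideal.comap_comap,
        show q.asIdeal.comap (algebraMap R₀ (Localization.Away f)) = n from congrArg PrimeSpectrum.asIdeal hq]
      exact (n.over_def s).symm) hopen
  refine ⟨f, g, ?_, ?_, ?_, ?_, ?_, ?_, ?_⟩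
  · rw [map_mul, map_mul]
    refine mul_ne_zero (fun h => hfn ((hn f).2 h)) fun h => hgs (show g ∈ s from ?_)
    rw [← IsScalarTower.algebraMap_apply, IsScalarTower.algebraMap_apply S₀ S R] at h
    exact h
  · intro P hP hgP
    let p₀ : PrimeSpectrum S₀ := PrimeSpectrum.comap (algebraMap S₀ S) ⟨P, hP⟩
    obtain ⟨q', hq'⟩ := hgsub (show p₀ ∈ (PrimeSpectrum.basicOpen g : Set (PrimeSpectrum S₀)) from hgP)
    let q : PrimeSpectrum R₀ := PrimeSpectrum.comap (algebraMap R₀ (Localization.Away f)) q'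
    have hfq : f * algebraMap S₀ R₀ g ∉ q.asIdeal := by
      refine fun h => (Ideal.IsPrime.mem_or_mem q.2 h).elim (fun h1 => ?_) fun h1 => ?_
      · exact q'.2.ne_top (Ideal.eq_top_of_isUnit_mem _ h1 (IsLocalization.Away.algebraMap_isUnit f))
      · refine hgP (show g ∈ p₀.asIdeal from ?_)
        rw [← hq']
        show algebraMap S₀ (Localization.Away f) g ∈ q'.asIdeal
        rw [IsScalarTower.algebraMap_apply S₀ R₀ (Localization.Away f)]
        exact h1
    obtain ⟨w, hw1, hw2⟩ := exists_prime_tensor S₀ S R₀ ⟨P, hP⟩ q (by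
      refine hq'.symm.trans (PrimeSpectrum.ext ?_)
      show q'.asIdeal.comap (algebraMap S₀ (Localization.Away f)) = (q'.asIdeal.comap _).comap (algebraMap S₀ R₀)
      rw [Ideal.comap_comap, ← IsScalarTower.algebraMap_eq])
    let Φ := Algebra.TensorProduct.productMap (IsScalarTower.toAlgHom S₀ S R) (IsScalarTower.toAlgHom S₀ R₀ R)
    let H : S ⊗[S₀] R₀ := (1 : S) ⊗ₜ[S₀] (f * algebraMap S₀ R₀ g)
    have hΦH : Φ H = algebraMap R₀ R (f * algebraMap S₀ R₀ g) := by simp [Φ, H]
    have hA : AwayIso Φ.toRingHom H := by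
      refine ⟨fun v => ?_, fun z hz => ⟨1, ?_⟩⟩
      · obtain ⟨N, hN⟩ := hsurj v
        have hmem : ∀ u ∈ invSpan k A S R, ∃ z, Φ z = u := by
          intro u hu
          induction hu using Submodule.span_induction with
          | mem u hu =>
            obtain ⟨a, rfl⟩ := (hR₀.ge hu :)
            exact ⟨1 ⊗ₜ a, by simp [Φ]⟩
          | zero => exact ⟨0, map_zero _⟩
          | add _ _ _ _ hp hq =>
            obtain ⟨a, rfl⟩ := hp
            obtain ⟨b, rfl⟩ := hq
            exact ⟨a + b, map_add _ _ _⟩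
          | smul σ _ _ hp =>
            obtain ⟨a, rfl⟩ := hp
            exact ⟨(σ ⊗ₜ 1) * a, by rw [map_mul]; simp [Φ, Algebra.smul_def]⟩
        obtain ⟨z, hz⟩ := hmem _ hN
        refine ⟨N, ((1 : S) ⊗ₜ[S₀] (E * f₃ * algebraMap S₀ R₀ g)) ^ N * z, ?_⟩
        show Φ _ = Φ H ^ N * v
        rw [map_mul, map_pow, hz, hΦH]
        simp only [Φ, Algebra.TensorProduct.productMap_apply_tmul, map_one, one_mul, IsScalarTower.coe_toAlgHom',
          f, map_mul, mul_pow]
        ring
      · have := hker z hz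
        rw [pow_one, show H = ((1 : S) ⊗ₜ[S₀] (ε * f₁ * f₃ * algebraMap S₀ R₀ g)) * ((1 : S) ⊗ₜ[S₀] E) by
          simp only [H, f, Algebra.TensorProduct.tmul_mul_tmul, mul_one]
          congr 1
          ring, mul_assoc, this, mul_zero]
    haveI := w.2
    obtain ⟨Q, hQp, hHQ, hQ⟩ := exists_prime_of_awayIso Φ.toRingHom H hA w.asIdeal (fun h => hfq (by
      rw [← congrArg PrimeSpectrum.asIdeal hw2]
      exact h))
    refine ⟨Q, hQp, fun h => hHQ (show Φ H ∈ Q by rw [hΦH]; exact h), ?_⟩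
    have e := congrArg PrimeSpectrum.asIdeal hw1
    rw [← show w.asIdeal.comap (algebraMap S (S ⊗[S₀] R₀)) = P from e, ← hQ, Ideal.comap_comap]
    congr 1
    ext σ
    simp [Φ]
  · intro Q _ hQ
    exact hetf Q fun h => hQ (by
      simp only [f, map_mul]
      exact Ideal.mul_mem_right _ _ (Ideal.mul_mem_right _ _ (Ideal.mul_mem_right _ _ (Ideal.mul_mem_left _ _ h))))
  · intro x' hx' hcl
    refine isClosedOrbit_of_range_eq _ x' (le_antisymm (range_orbitHom_comp_le hequiv x') ?_) hcl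
    rintro _ ⟨u, rfl⟩
    let D := (GLin.orbitHom k A (x'.comp (IsScalarTower.toAlgHom k S R))).range
    have hD : ∀ v ∈ invSpan k A S R, GLin.orbitHom k A x' v ∈ D := by
      intro v hv
      induction hv using Submodule.span_induction with
      | mem v hv => rw [orbitHom_of_mem_invariants x' hv]; exact D.algebraMap_mem _
      | zero => rw [map_zero]; exact zero_mem _
      | add p q _ _ hp hq => rw [map_add]; exact add_mem hp hq
      | smul σ p _ hp =>
        rw [Algebra.smul_def, map_mul,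
          show GLin.orbitHom k A x' (algebraMap S R σ) = _ from
            GLinFree.orbitHom_comp (IsScalarTower.toAlgHom k S R) hequiv x' σ]
        exact mul_mem ⟨σ, rfl⟩ hp
    obtain ⟨N, hN⟩ := hsurj u
    have hne : x' (algebraMap R₀ R (ε * f₁)) ≠ 0 := fun h => hx' (by
      rw [show f * algebraMap S₀ R₀ g = (ε * f₁) * (E * f₃ * algebraMap S₀ R₀ g) by simp only [f]; ring,
        map_mul (algebraMap R₀ R) (ε * f₁), map_mul x', h, zero_mul])
    have h1 := hD _ hN
    rw [← map_mul (algebraMap R₀ R), map_mul (GLin.orbitHom k A x'), map_pow (GLin.orbitHom k A x'),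
      orbitHom_of_mem_invariants (f := algebraMap R₀ R (ε * f₁)) x'
        (mem_invariants_map (IsScalarTower.toAlgHom k R₀ R) hR₀ (ε * f₁)),
      ← map_pow, ← Algebra.smul_def] at h1
    have h2 := D.smul_mem h1 ((x' (algebraMap R₀ R (ε * f₁))) ^ N)⁻¹
    rw [smul_smul, inv_mul_cancel₀ (pow_ne_zero _ hne), one_smul] at h2
    exact h2
  · intro q _ hq
    exact het₀ q fun h => hq (Ideal.mul_mem_right _ _ (Ideal.mul_mem_left _ _ h))
  · intro z hz
    refine ⟨1, ?_⟩
    rw [pow_one, show (1 : S) ⊗ₜ[S₀] (f * algebraMap S₀ R₀ g) =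
      ((1 : S) ⊗ₜ[S₀] (ε * f₁ * f₃ * algebraMap S₀ R₀ g)) * ((1 : S) ⊗ₜ[S₀] E) by
        simp only [f, Algebra.TensorProduct.tmul_mul_tmul, mul_one]; congr 1; ring, mul_assoc, hker z hz, mul_zero]
  · intro v
    obtain ⟨N, hN⟩ := hsurj v
    have hmem : ∀ u ∈ invSpan k A S R, ∃ z, Algebra.TensorProduct.productMap (IsScalarTower.toAlgHom S₀ S R)
        (IsScalarTower.toAlgHom S₀ R₀ R) z = u := by
      intro u hu
      induction hu using Submodule.span_induction with
      | mem u hu =>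
        obtain ⟨a, rfl⟩ := (hR₀.ge hu :)
        exact ⟨1 ⊗ₜ a, by simp⟩
      | zero => exact ⟨0, map_zero _⟩
      | add _ _ _ _ hp hq =>
        obtain ⟨a, rfl⟩ := hp
        obtain ⟨b, rfl⟩ := hq
        exact ⟨a + b, map_add _ _ _⟩
      | smul σ _ _ hp =>
        obtain ⟨a, rfl⟩ := hp
        exact ⟨(σ ⊗ₜ 1) * a, by rw [map_mul]; simp [Algebra.smul_def]⟩
    refine ⟨N, ?_⟩
    refine hmem _ ?_
    rw [show algebraMap R₀ R (f * algebraMap S₀ R₀ g) ^ N * v = algebraMap R₀ R (E * f₃ * algebraMap S₀ R₀ g) ^ N *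
      ((algebraMap R₀ R ε * algebraMap R₀ R f₁) ^ N * v) by simp only [f, map_mul, mul_pow]; ring]
    exact mul_mem_invSpan (pow_mem (mem_invariants_map (IsScalarTower.toAlgHom k R₀ R) hR₀ _) N) hN

end Groth.Agent.LunaEt
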