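import Groth.Agent.LunaEt.Tube
import Groth.Agent.LunaEt.Fundamental
import Groth.Agent.GenBertini.Basic
import Groth.Agent.SerreReg.Descent
import Groth.Agent.RegTrans.Basic
import Groth.Agent.GLinFree.Dim

/-!
Slice charts through points with closed orbit.
-/
set_option autoImplicit false
set_option linter.unusedSectionVars false
set_option maxHeartbeats 1000000
set_option synthInstance.maxHeartbeats 200000
universe u
open TensorProduct Coalgebra WithConv
noncomputable section

namespace Groth.Agent.LunaEt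

variable {k : Type u} [Field k] {A : Type u} [CommRing A] [HopfAlgebra k A]
variable {R : Type u} [CommRing R] [Algebra k R] [HopfRep.Comod k A R] [GLin.IsCoactAlg k A R]

local instance regular_isCoactAlg : GLin.IsCoactAlg k A A := ⟨Bialgebra.comul_one, Bialgebra.comul_mul⟩

theorem orbitHom_transl (z : R →ₐ[k] k) (g : A →ₐ[k] k) (f : R) :
    GLin.orbitHom k A z (transl g f) = transl g (GLin.orbitHom k A z f) :=
  map_transl (GLin.orbitHom k A z) (fun s => OrbitCot.comul_orbitHom (A := A) z s) g f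

/-- Translating preserves containments of stabilisers. -/
theorem stabIdeal_actPt_le {R' : Type u} [CommRing R'] [Algebra k R'] [HopfRep.Comod k A R'] [GLin.IsCoactAlg k A R']
    (z : R →ₐ[k] k) (z' : R' →ₐ[k] k) (g : A →ₐ[k] k)
    (h : GLin.stabIdeal k A z ≤ GLin.stabIdeal k A z') :
    GLin.stabIdeal k A (GLin.actPt k g z) ≤ GLin.stabIdeal k A (GLin.actPt k g z') := by
  let G : WithConv (A →ₐ[k] k) := toConv g
  let Γ : A →ₐ[k] A := (GLRed.tauL G).comp (transl G⁻¹.ofConv)
  have hΓ : ∀ {Q : Type u} [CommRing Q] [Algebra k Q] [HopfRep.Comod k A Q] [GLin.IsCoactAlg k A Q]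
      (w : Q →ₐ[k] k) (f : Q), Γ (GLin.orbitHom k A w f) =
      GLin.orbitHom k A (GLin.actPt k g w) (transl G⁻¹.ofConv f) := fun {Q} _ _ _ _ w f => by
    show GLRed.tauL G (transl G⁻¹.ofConv (GLin.orbitHom k A w f)) = _
    rw [← orbitHom_transl, GLRed.tauL_orbitHom]
  have h2 : (GLin.stabIdeal k A z').map Γ ≤ GLin.stabIdeal k A (GLin.actPt k g z') := by
    rw [GLin.stabIdeal, Ideal.map_le_iff_le_comap, Ideal.map_le_iff_le_comap]
    intro f hf
    rw [Ideal.mem_comap, Ideal.mem_comap, hΓ]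
    refine Ideal.mem_map_of_mem _ ?_
    rw [RingHom.mem_ker, ← apply_transl, show g = G.ofConv from rfl, transl_transl, mul_inv_cancel, transl_one]
    exact hf
  refine Ideal.map_le_iff_le_comap.2 fun f hf => h2 ?_
  have h3 : GLin.orbitHom k A z (transl g f) ∈ GLin.stabIdeal k A z' :=
    h (Ideal.mem_map_of_mem _ (by rw [RingHom.mem_ker, apply_transl]; exact hf))
  have h4 := Ideal.mem_map_of_mem Γ h3
  rwa [hΓ, show g = G.ofConv from rfl, transl_transl, inv_mul_cancel, transl_one] at h4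

variable [IsAlgClosed k] [CharZero k] [Algebra.FiniteType k A]

section Equivariant

variable {S : Type u} [CommRing S] [Algebra k S] [HopfRep.Comod k A S] [GLin.IsCoactAlg k A S]
variable (φ : R →ₐ[k] S) (hφ : ∀ f, HopfRep.Comod.coact (k := k) (A := A) (φ f) =
    Algebra.TensorProduct.map φ (AlgHom.id k A) (HopfRep.Comod.coact (k := k) (A := A) f))

include hφ in
theorem orbitHom_comp' (y : S →ₐ[k] k) (f : R) :
    GLin.orbitHom k A y (φ f) = GLin.orbitHom k A (y.comp φ) f := by
  show (Algebra.TensorProduct.lid k A).toAlgHom (Algebra.TensorProduct.map y (AlgHom.id k A)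
    (HopfRep.Comod.coact (k := k) (A := A) (φ f))) = (Algebra.TensorProduct.lid k A).toAlgHom
      (Algebra.TensorProduct.map (y.comp φ) (AlgHom.id k A) (HopfRep.Comod.coact (k := k) (A := A) f))
  rw [hφ, ← AlgHom.comp_apply (Algebra.TensorProduct.map y _), ← Algebra.TensorProduct.map_comp, AlgHom.id_comp]

include hφ in
theorem actPt_comp (g : A →ₐ[k] k) (y : S →ₐ[k] k) :
    (GLin.actPt k g y).comp φ = GLin.actPt k g (y.comp φ) := AlgHom.ext fun f => by
  show g (GLin.orbitHom k A y (φ f)) = g (GLin.orbitHom k A (y.comp φ) f)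
  rw [orbitHom_comp' φ hφ y f]

include hφ in
theorem stabIdeal_comp_le (y : S →ₐ[k] k) : GLin.stabIdeal k A (y.comp φ) ≤ GLin.stabIdeal k A y := by
  refine Ideal.map_le_iff_le_comap.2 fun f hf => ?_
  rw [Ideal.mem_comap, ← orbitHom_comp' φ hφ y f]
  exact Ideal.mem_map_of_mem _ hf

end Equivariant

theorem smooth_orbitRing (x : R →ₐ[k] k) (hx : GLin.IsClosedOrbit k A x) [Algebra.FiniteType k R] :
    Algebra.Smooth k (R ⧸ RingHom.ker (GLin.orbitHom k A x).toRingHom) := by
  haveI : IsNoetherianRing A := Algebra.FiniteType.isNoetherianRing k A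
  haveI : IsRegularRing A := RegTrans.isRegularRing_of_maximal fun M _ => GLinFree.isRegularLocalRing_hopf k M
  haveI := GLinFree.faithfullyFlat_orbit x hx
  haveI : IsRegularRing (GLin.orbitHom k A x).range :=
    SerreReg.isRegularRing_of_faithfullyFlat (GLin.orbitHom k A x).range A
  let e : (GLin.orbitHom k A x).range ≃+* (GLin.orbitHom k A x).toRingHom.range :=
    { toFun := fun a => ⟨a.1, a.2⟩, invFun := fun a => ⟨a.1, a.2⟩,
      map_mul' := fun _ _ => rfl, map_add' := fun _ _ => rfl }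
  haveI : IsRegularRing (R ⧸ RingHom.ker (GLin.orbitHom k A x).toRingHom) :=
    IsRegularRing.of_ringEquiv (e.trans (RingHom.quotientKerEquivRange (GLin.orbitHom k A x).toRingHom).symm)
  exact GenBertini.smooth_of_regular k _

theorem quot_isCoactAlg {J : Ideal R} (hJ : OrbitCot.Stable k A J) :
    @GLin.IsCoactAlg k _ A _ _ (R ⧸ J) _ _ (OrbitCot.quotComod k A hJ) := by
  letI := OrbitCot.quotComod k A hJ
  exact ⟨map_one (OrbitCot.quotCoact k A hJ), map_mul (OrbitCot.quotCoact k A hJ)⟩

attribute [local instance] diagComod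

theorem coact_mk_comp {S T : Type u} [CommRing S] [Algebra k S] [HopfRep.Comod k A S] [GLin.IsCoactAlg k A S]
    [CommRing T] [Algebra k T] [HopfRep.Comod k A T] [GLin.IsCoactAlg k A T] (i : S →ₐ[k] T)
    (hi : ∀ f, HopfRep.Comod.coact (k := k) (A := A) (i f) =
      Algebra.TensorProduct.map i (AlgHom.id k A) (HopfRep.Comod.coact (k := k) (A := A) f))
    {K : Ideal T} (hK : OrbitCot.Stable k A K) (f : S) :
    OrbitCot.quotCoact k A hK (Ideal.Quotient.mk K (i f)) =
      Algebra.TensorProduct.map ((Ideal.Quotient.mkₐ k K).comp i) (AlgHom.id k A)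
        (HopfRep.Comod.coact (k := k) (A := A) f) := by
  rw [OrbitCot.quotCoact_mk, GLin.coactAlgHom_apply, hi]
  generalize HopfRep.Comod.coact (k := k) (A := A) f = t
  induction t using TensorProduct.induction_on with
  | zero => simp
  | add a b ha hb => simp only [map_add, ha, hb]
  | tmul a b => simp

variable {D : Type u} [CommRing D] [Algebra k D] [HopfRep.Comod k A D] [GLin.IsCoactAlg k A D]

theorem exists_chart_aux (hG : HopfRep.IsLinearlyReductive k A) [Algebra.FiniteType k R] [Algebra.FiniteType k D]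
    [Algebra.Smooth k D] (x : R →ₐ[k] k)
    (hx : GLin.IsClosedOrbit k A x) (φ : R →ₐ[k] D) (hsurj : Function.Surjective φ)
    (hφ : ∀ f, HopfRep.Comod.coact (k := k) (A := A) (φ f) =
      Algebra.TensorProduct.map φ (AlgHom.id k A) (HopfRep.Comod.coact (k := k) (A := A) f))
    (hker : ∀ f, GLin.orbitHom k A x f = 0 → φ f = 0) (o : D →ₐ[k] k) (ho : o.comp φ = x) :
    ∃ (C : Type u) (_ : CommRing C) (_ : Algebra k C) (_ : HopfRep.Comod k A C) (_ : GLin.IsCoactAlg k A C)
      (_ : Algebra R C) (_ : IsScalarTower k R C), Algebra.FiniteType k C ∧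
      (∀ f : R, HopfRep.Comod.coact (k := k) (A := A) (algebraMap R C f) =
        Algebra.TensorProduct.map (IsScalarTower.toAlgHom k R C) (AlgHom.id k A)
          (HopfRep.Comod.coact (k := k) (A := A) f)) ∧
      ∃ z : C →ₐ[k] k, z.comp (IsScalarTower.toAlgHom k R C) = x ∧
        (haveI : (RingHom.ker z.toRingHom).IsPrime := RingHom.ker_isPrime _;
          Algebra.IsEtaleAt R (RingHom.ker z.toRingHom)) ∧
        (∀ g : A →ₐ[k] k, GLin.actPt k g x = x → GLin.actPt k g z = z) ∧
        ∀ z' : C →ₐ[k] k, ∃ g : A →ₐ[k] k, GLin.stabIdeal k A x ≤ GLin.stabIdeal k A (GLin.actPt k g z') := by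
  obtain ⟨r⟩ := Comod.nonempty_integral hG
  haveI : IsReduced A := HopfCartier.isReduced (k := k)
  obtain ⟨u, hadd, hsmul, hu, hπu, hstab⟩ := exists_equations hφ r hsurj
  let K : Ideal (R ⊗[k] D) := Ideal.span (Set.range u)
  have hK : CS A (K.restrictScalars k) := cs_of_forall_transl fun g w hw => by
    have hle : K.map (transl g) ≤ K := by
      rw [Ideal.map_le_iff_le_comap, Ideal.span_le]
      rintro _ ⟨ω, rfl⟩
      obtain ⟨ω', hω'⟩ := hstab g ω
      show transl g (u ω) ∈ K
      rw [hω']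
      exact Ideal.subset_span ⟨ω', rfl⟩
    exact hle (Ideal.mem_map_of_mem _ hw)
  have hKs := stable_of_cs hK
  letI : HopfRep.Comod k A ((R ⊗[k] D) ⧸ K) := OrbitCot.quotComod k A hKs
  haveI : GLin.IsCoactAlg k A ((R ⊗[k] D) ⧸ K) := quot_isCoactAlg hKs
  let κ : D →ₐ[k] (R ⊗[k] D) ⧸ K := (Ideal.Quotient.mkₐ k K).comp Algebra.TensorProduct.includeRight
  have hequiv : ∀ f : R, HopfRep.Comod.coact (k := k) (A := A) (algebraMap R ((R ⊗[k] D) ⧸ K) f) =
      Algebra.TensorProduct.map (IsScalarTower.toAlgHom k R ((R ⊗[k] D) ⧸ K)) (AlgHom.id k A)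
        (HopfRep.Comod.coact (k := k) (A := A) f) :=
    coact_mk_comp Algebra.TensorProduct.includeLeft (diagCoact_left k A R D) hKs
  have hκ : ∀ d, HopfRep.Comod.coact (k := k) (A := A) (κ d) =
      Algebra.TensorProduct.map κ (AlgHom.id k A) (HopfRep.Comod.coact (k := k) (A := A) d) :=
    coact_mk_comp Algebra.TensorProduct.includeRight (diagCoact_right k A R D) hKs
  have hKπ : ∀ a ∈ K, piMap φ a = 0 := fun a ha => by
    refine (Ideal.span_le (I := RingHom.ker (piMap φ))).2 ?_ ha
    rintro _ ⟨ω, rfl⟩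
    exact hπu ω
  let z : (R ⊗[k] D) ⧸ K →ₐ[k] k := o.comp (Ideal.Quotient.liftₐ K (piMap φ) hKπ)
  have hzR : z.comp (IsScalarTower.toAlgHom k R _) = x := AlgHom.ext fun f => by
    show o (piMap φ (f ⊗ₜ[k] (1 : D))) = x f
    rw [piMap_tmul, mul_one, ← ho]
    rfl
  have hzκ : z.comp κ = o := AlgHom.ext fun d => by
    show o (piMap φ ((1 : R) ⊗ₜ[k] d)) = o d
    rw [piMap_tmul, map_one, one_mul]
  haveI : Algebra.FiniteType k (R ⊗[k] D) := Algebra.FiniteType.trans (S := R) inferInstance inferInstance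
  refine ⟨(R ⊗[k] D) ⧸ K, inferInstance, inferInstance, inferInstance, inferInstance, inferInstance,
    inferInstance, Algebra.FiniteType.of_surjective (Ideal.Quotient.mkₐ k K) Ideal.Quotient.mk_surjective,
    hequiv, z, hzR, ?_, fun g hg => ?_, fun z' => ?_⟩
  · haveI : (RingHom.ker z.toRingHom).IsPrime := RingHom.ker_isPrime _
    exact isEtaleAt_quot_of_sections φ u hadd hsmul hu K rfl _ fun f => by
      show o (piMap φ (f ⊗ₜ[k] (1 : D) - (1 : R) ⊗ₜ[k] φ f)) = 0
      rw [map_sub, piMap_tmul, piMap_tmul, mul_one, map_one, one_mul, sub_self, map_zero]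
  · have h1 : GLin.actPt k g o = o := by
      rw [← AlgHom.cancel_right hsurj, actPt_comp φ hφ, ho, hg]
    refine Ideal.Quotient.algHom_ext k (Algebra.TensorProduct.ext (AlgHom.ext fun f => ?_) (AlgHom.ext fun d => ?_))
    · show ((GLin.actPt k g z).comp (IsScalarTower.toAlgHom k R _)) f = (z.comp (IsScalarTower.toAlgHom k R _)) f
      rw [actPt_comp _ hequiv, hzR, hg]
    · show ((GLin.actPt k g z).comp κ) d = (z.comp κ) d
      rw [actPt_comp κ hκ, hzκ, h1]
  · let y : D →ₐ[k] k := z'.comp κ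
    obtain ⟨a, ha⟩ := exists_translate_of_ker_le x hx (y.comp φ) fun f hf => by
      show y (φ f) = 0
      rw [hker f hf, map_zero]
    refine ⟨((toConv a)⁻¹).ofConv, ?_⟩
    have h1 : GLin.stabIdeal k A (GLin.actPt k a x) ≤ GLin.stabIdeal k A y := by
      rw [ha]
      exact stabIdeal_comp_le φ hφ y
    have h2 := stabIdeal_actPt_le _ _ ((toConv a)⁻¹).ofConv h1
    rw [actPt_inv, show y = z'.comp κ from rfl, ← actPt_comp κ hκ] at h2
    exact h2.trans (stabIdeal_comp_le κ hκ _)

/-- A slice chart: an equivariant chart etale at a lift of the point, whose stabilisers are subconjugate to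
the stabiliser of the point. -/
theorem exists_chart (hG : HopfRep.IsLinearlyReductive k A) [Algebra.FiniteType k R] (x : R →ₐ[k] k)
    (hx : GLin.IsClosedOrbit k A x) :
    ∃ (C : Type u) (_ : CommRing C) (_ : Algebra k C) (_ : HopfRep.Comod k A C) (_ : GLin.IsCoactAlg k A C)
      (_ : Algebra R C) (_ : IsScalarTower k R C), Algebra.FiniteType k C ∧
      (∀ f : R, HopfRep.Comod.coact (k := k) (A := A) (algebraMap R C f) =
        Algebra.TensorProduct.map (IsScalarTower.toAlgHom k R C) (AlgHom.id k A)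
          (HopfRep.Comod.coact (k := k) (A := A) f)) ∧
      ∃ z : C →ₐ[k] k, z.comp (IsScalarTower.toAlgHom k R C) = x ∧
        (haveI : (RingHom.ker z.toRingHom).IsPrime := RingHom.ker_isPrime _;
          Algebra.IsEtaleAt R (RingHom.ker z.toRingHom)) ∧
        (∀ g : A →ₐ[k] k, GLin.actPt k g x = x → GLin.actPt k g z = z) ∧
        ∀ z' : C →ₐ[k] k, ∃ g : A →ₐ[k] k, GLin.stabIdeal k A x ≤ GLin.stabIdeal k A (GLin.actPt k g z') := by
  let J : Ideal R := RingHom.ker (GLin.orbitHom k A x).toRingHom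
  have hJ : OrbitCot.Stable k A J := stable_of_cs (cs_orbit x)
  letI : HopfRep.Comod k A (R ⧸ J) := OrbitCot.quotComod k A hJ
  haveI : GLin.IsCoactAlg k A (R ⧸ J) := quot_isCoactAlg hJ
  haveI := smooth_orbitRing x hx
  have hJx : ∀ f ∈ J, x f = 0 := fun f hf => by
    rw [← GLinFree.counit_orbit (A := A) x f, show GLin.orbitHom k A x f = 0 from hf, map_zero]
  exact exists_chart_aux hG x hx (Ideal.Quotient.mkₐ k J) Ideal.Quotient.mk_surjective
    (fun f => OrbitCot.quotCoact_mk hJ f) (fun f hf => Ideal.Quotient.eq_zero_iff_mem.2 hf)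
    (Ideal.Quotient.liftₐ J x hJx) (AlgHom.ext fun f => rfl)

end Groth.Agent.LunaEt
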