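import Groth.Agent.GLinFree.ClosedFinite
import Groth.Agent.GLinFree.Avg

/-!
Coefficient-stable subspaces of comodule algebras and separation by invariants.
-/
set_option autoImplicit false
set_option linter.unusedSectionVars false
universe u
open TensorProduct Coalgebra WithConv
noncomputable section

namespace Groth.Agent.LunaEt

variable {k : Type u} [Field k] {A : Type u} [CommRing A] [HopfAlgebra k A]
variable {R : Type u} [CommRing R] [Algebra k R] [HopfRep.Comod k A R] [GLin.IsCoactAlg k A R]

local notation "ρ" => GLin.coactAlgHom k A R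

/-- the coefficient of the coaction along a functional -/
def coef (φ : A →ₗ[k] k) : R →ₗ[k] R := Comod.cR φ ∘ₗ (GLin.coactAlgHom k A R).toLinearMap

theorem coef_apply (φ : A →ₗ[k] k) (f : R) : coef φ f = Comod.cR φ (ρ f) := rfl

theorem reynolds_eq_coef (r : Comod.Integral k A) (f : R) : Comod.reynolds R r f = coef r.toFun f := rfl

theorem coef_mul_invariant (φ : A →ₗ[k] k) (a : R) {f : R} (hf : f ∈ GLin.invariants k A R) :
    coef φ (a * f) = coef φ a * f := by
  rw [coef_apply, coef_apply, map_mul, show ρ f = f ⊗ₜ[k] (1 : A) from hf, OrbitCot.cR_mul_left]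

theorem coef_invariant (φ : A →ₗ[k] k) {f : R} (hf : f ∈ GLin.invariants k A R) :
    coef φ f = φ 1 • f := by
  rw [coef_apply, show ρ f = f ⊗ₜ[k] (1 : A) from hf, Comod.cR_tmul]

variable (A) in
/-- a subspace containing all coefficients of its elements -/
def CS (W : Submodule k R) : Prop := ∀ c ∈ W, ∀ φ : A →ₗ[k] k, coef φ c ∈ W

theorem mem_range_of_cs {W : Submodule k R} (hW : CS A W) {c : R} (hc : c ∈ W) :
    ρ c ∈ LinearMap.range (W.subtype.rTensor A) := by
  refine (rTensor_exact A (LinearMap.exact_subtype_mkQ W) W.mkQ_surjective (ρ c)).1 ?_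
  refine Comod.tensor_eq_of_cR fun φ => ?_
  rw [Comod.cR_rTensor, map_zero, Submodule.mkQ_apply, Submodule.Quotient.mk_eq_zero]
  exact hW c hc φ

theorem cs_sup {W W' : Submodule k R} (hW : CS A W) (hW' : CS A W') : CS A (W ⊔ W') := fun c hc φ => by
  obtain ⟨a, ha, b, hb, rfl⟩ := Submodule.mem_sup.1 hc
  rw [map_add]
  exact add_mem (Submodule.mem_sup_left (hW a ha φ)) (Submodule.mem_sup_right (hW' b hb φ))

theorem cs_top : CS A (⊤ : Submodule k R) := fun _ _ _ => Submodule.mem_top

theorem cs_span_invariant (F : Set R) (hF : F ⊆ (GLin.invariants k A R : Set R)) :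
    CS A ((Ideal.span F).restrictScalars k) := by
  intro c hc φ
  rw [Submodule.restrictScalars_mem] at hc ⊢
  have : ∀ a, coef φ (a * c) ∈ Ideal.span F := by
    induction hc using Submodule.span_induction with
    | mem f hf => exact fun a => by rw [coef_mul_invariant φ a (hF hf)]; exact Ideal.mul_mem_left _ _ (Ideal.subset_span hf)
    | zero => simp
    | add p q _ _ hp hq => exact fun a => by rw [mul_add, map_add]; exact add_mem (hp a) (hq a)
    | smul s p _ hp => exact fun a => by rw [smul_eq_mul, ← mul_assoc]; exact hp (a * s)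
  simpa using this 1

theorem apply_orbitHom (z : R →ₐ[k] k) (g : A →ₐ[k] k) (f : R) :
    g (GLin.orbitHom k A z f) = z (coef g.toLinearMap f) := by
  show g ((Algebra.TensorProduct.lid k A).toAlgHom (Algebra.TensorProduct.map z (AlgHom.id k A) (ρ f))) =
    z (Comod.cR g.toLinearMap (ρ f))
  generalize ρ f = t
  induction t using TensorProduct.induction_on with
  | zero => simp
  | tmul a b => simp [mul_comm]
  | add a b ha hb => simp only [map_add, ha, hb]

theorem cs_orbit (z : R →ₐ[k] k) :
    CS A ((RingHom.ker (GLin.orbitHom k A z)).restrictScalars k) := by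
  intro c hc φ
  rw [Submodule.restrictScalars_mem, RingHom.mem_ker] at hc ⊢
  have h := OrbitCot.comul_orbitHom (A := A) z c
  rw [hc, map_zero] at h
  rw [coef_apply, show GLin.orbitHom k A z (Comod.cR φ (ρ c)) =
    (GLin.orbitHom k A z).toLinearMap (Comod.cR φ (ρ c)) from rfl, ← Comod.cR_rTensor, ← h, map_zero]

section Map

variable {S : Type u} [CommRing S] [Algebra k S] [HopfRep.Comod k A S] [GLin.IsCoactAlg k A S]
variable (ι : S →ₐ[k] R)
variable (hequiv : ∀ s : S, HopfRep.Comod.coact (k := k) (A := A) (ι s) =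
  Algebra.TensorProduct.map ι (AlgHom.id k A) (HopfRep.Comod.coact (k := k) (A := A) s))

include hequiv in
theorem coef_map (φ : A →ₗ[k] k) (s : S) : ι (coef φ s) = coef φ (ι s) := by
  show ι (Comod.cR φ (GLin.coactAlgHom k A S s)) = Comod.cR φ (ρ (ι s))
  rw [show ρ (ι s) = Algebra.TensorProduct.map ι (AlgHom.id k A) (GLin.coactAlgHom k A S s) from hequiv s]
  generalize GLin.coactAlgHom k A S s = t
  induction t using TensorProduct.induction_on with
  | zero => simp
  | tmul a b => simp
  | add a b ha hb => simp only [map_add, ha, hb]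

include hequiv in
theorem cs_range : CS A (LinearMap.range ι.toLinearMap) := by
  rintro _ ⟨s, rfl⟩ φ
  exact ⟨coef φ s, coef_map ι hequiv φ s⟩

include hequiv in
theorem cs_comap {W : Submodule k R} (hW : CS A W) : CS A (W.comap ι.toLinearMap) := fun c hc φ => by
  show ι (coef φ c) ∈ W
  rw [coef_map ι hequiv]
  exact hW _ hc φ

include hequiv in
/-- Colon subspaces of stable subspaces are stable. -/
theorem cs_colon {W T : Submodule k R} (hW : CS A W) (hT : CS A T) (s : S)
    (hs : ∀ t ∈ T, ι s * t ∈ W) (φ : A →ₗ[k] k) : ∀ t ∈ T, ι (coef φ s) * t ∈ W := by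
  intro t ht
  rw [coef_map ι hequiv, coef_apply, ← OrbitCot.cR_mul_left]
  have hsh := GLinFree.shear_id_coact (k := k) (A := A) (R := R) t
  rw [← GLin.coactAlgHom_apply (k := k) (A := A) (R := R)] at hsh
  rw [← hsh]
  obtain ⟨u, hu⟩ := mem_range_of_cs hT ht
  rw [← hu]
  clear hu hsh
  induction u using TensorProduct.induction_on with
  | zero => simp
  | add a b ha hb => simp only [map_add, mul_add]; exact add_mem ha hb
  | tmul z a =>
    rw [LinearMap.rTensor_tmul, GLinFree.shear_tmul, ← mul_assoc, LinearMap.id_apply, ← map_mul]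
    have : ∀ w : R, Comod.cR φ (ρ w * ((1 : R) ⊗ₜ[k] HopfAlgebra.antipode k a)) =
        coef (φ ∘ₗ LinearMap.mulRight k (HopfAlgebra.antipode k a)) w := fun w => by
      rw [coef_apply]
      generalize ρ w = v
      induction v using TensorProduct.induction_on with
      | zero => simp
      | tmul p q => simp [Algebra.TensorProduct.tmul_mul_tmul]
      | add p q hp hq => simp only [add_mul, map_add, hp, hq]
    rw [this]
    exact hW _ (hs z z.2) _

end Map

section Points

theorem actPt_actPt (g h : WithConv (A →ₐ[k] k)) (z : R →ₐ[k] k) :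
    GLin.actPt k h.ofConv (GLin.actPt k g.ofConv z) = GLin.actPt k (g * h).ofConv z :=
  AlgHom.ext fun f => GLinFree.apply_orbitHom_actPt g h z f

theorem actPt_one (z : R →ₐ[k] k) : GLin.actPt k (1 : WithConv (A →ₐ[k] k)).ofConv z = z :=
  AlgHom.ext fun f => by
    refine Eq.trans ?_ (GLinFree.counit_orbit (A := A) z f)
    simp [GLin.actPt]

theorem actPt_inv (g : A →ₐ[k] k) (z : R →ₐ[k] k) :
    GLin.actPt k ((toConv g)⁻¹).ofConv (GLin.actPt k g z) = z := by
  have h := actPt_actPt (toConv g) (toConv g)⁻¹ z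
  rwa [mul_inv_cancel, actPt_one] at h

theorem le_ker_of_le_ker_actPt {C : Ideal R} (hC : CS A (C.restrictScalars k)) (z : R →ₐ[k] k)
    (g : A →ₐ[k] k) (h : C ≤ RingHom.ker (GLin.actPt k g z)) : C ≤ RingHom.ker z := by
  intro c hc
  rw [← actPt_inv g z, RingHom.mem_ker]
  show ((toConv g)⁻¹).ofConv (GLin.orbitHom k A (GLin.actPt k g z) c) = 0
  rw [apply_orbitHom]
  exact RingHom.mem_ker.1 (h (hC c hc _))

variable [IsAlgClosed k] [Algebra.FiniteType k A]

theorem exists_translate_of_ker_le (z : R →ₐ[k] k) (hz : GLin.IsClosedOrbit k A z) (w : R →ₐ[k] k)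
    (h : RingHom.ker (GLin.orbitHom k A z) ≤ RingHom.ker w) : ∃ g : A →ₐ[k] k, GLin.actPt k g z = w := by
  let φ := GLin.orbitHom k A z
  have hmem : (⟨RingHom.ker w, RingHom.ker_isPrime _⟩ : PrimeSpectrum R) ∈
      PrimeSpectrum.zeroLocus (RingHom.ker φ.toRingHom) := fun f hf => h hf
  rw [← PrimeSpectrum.closure_range_comap, hz.closure_eq] at hmem
  obtain ⟨q, hq⟩ := hmem
  obtain ⟨M, hM, hqM⟩ := Ideal.exists_le_maximal q.asIdeal q.2.ne_top
  obtain ⟨g, hg⟩ := GLinFree.exists_point_of_maximal (k := k) M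
  refine ⟨g, (GLinFree.point_ext fun f hf => ?_).symm⟩
  have : φ f ∈ q.asIdeal := (congrArg PrimeSpectrum.asIdeal hq).symm.le hf
  exact RingHom.mem_ker.2 (RingHom.mem_ker.1 (hg ▸ hqM this : φ f ∈ RingHom.ker g))

variable [Algebra.FiniteType k R]

/-- A stable ideal avoiding a point of closed orbit contains `1 - b` for an invariant `b` vanishing there. -/
theorem exists_invariant_of_cs (r : Comod.Integral k A) (z : R →ₐ[k] k) (hz : GLin.IsClosedOrbit k A z)
    {C : Ideal R} (hC : CS A (C.restrictScalars k)) (hCz : ¬ C ≤ RingHom.ker z) :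
    ∃ b ∈ GLin.invariants k A R, z b = 0 ∧ 1 - b ∈ C := by
  have htop : C ⊔ RingHom.ker (GLin.orbitHom k A z) = ⊤ := by
    by_contra h
    obtain ⟨M, hM, hle⟩ := Ideal.exists_le_maximal _ h
    obtain ⟨w, rfl⟩ := GLinFree.exists_point_of_maximal (k := k) M
    obtain ⟨g, rfl⟩ := exists_translate_of_ker_le z hz w (le_sup_right.trans hle)
    exact hCz (le_ker_of_le_ker_actPt hC z g (le_sup_left.trans hle))
  obtain ⟨c, hc, b, hb, hcb⟩ := Submodule.mem_sup.1 ((Ideal.eq_top_iff_one _).1 htop)
  refine ⟨Comod.reynolds R r b, Comod.reynolds_mem r b, ?_, ?_⟩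
  · have : Comod.reynolds R r b ∈ RingHom.ker (GLin.orbitHom k A z) := cs_orbit z b hb r.toFun
    rw [← GLinFree.counit_orbit (A := A) z, RingHom.mem_ker.1 this, map_zero]
  · have h1 : Comod.reynolds R r (1 : R) = 1 := Comod.reynolds_of_mem r (one_mem (GLin.invariants k A R))
    rw [← h1, ← hcb, map_add, add_sub_cancel_right]
    exact hC c hc r.toFun

/-- Two points with closed orbits agreeing on invariants are translates. -/
theorem exists_translate_of_invariants (r : Comod.Integral k A) (z z' : R →ₐ[k] k)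
    (hz : GLin.IsClosedOrbit k A z) (hz' : GLin.IsClosedOrbit k A z')
    (h : ∀ f ∈ GLin.invariants k A R, z f = z' f) : ∃ g : A →ₐ[k] k, GLin.actPt k g z = z' := by
  by_cases hle : RingHom.ker (GLin.orbitHom k A z') ≤ RingHom.ker z
  · obtain ⟨g, rfl⟩ := exists_translate_of_ker_le z' hz' z hle
    exact ⟨_, actPt_inv g z'⟩
  · obtain ⟨b, hb, hzb, hb1⟩ := exists_invariant_of_cs r z hz (cs_orbit z') hle
    have h1 := GLinFree.counit_orbit (A := A) z' (1 - b)
    rw [RingHom.mem_ker.1 hb1, map_zero, map_sub, map_one, ← h b hb, hzb, sub_zero] at h1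
    exact absurd h1 zero_ne_one

end Points

section Descend

variable {R₀ : Type u} [CommRing R₀] [Algebra k R₀] (j : R₀ →ₐ[k] R)
variable (hj : j.range = GLin.invariants k A R) (r : Comod.Integral k A)

include hj in
theorem mem_invariants_map (a : R₀) : j a ∈ GLin.invariants k A R := hj ▸ ⟨a, rfl⟩

include hj in
theorem exists_reynolds_eq (f : R) : ∃ a, j a = Comod.reynolds R r f :=
  (hj.ge (Comod.reynolds_mem r f) :)

include hj in
theorem cs_map (I : Ideal R₀) : CS A ((I.map j).restrictScalars k) :=
  cs_span_invariant _ (by rintro _ ⟨a, -, rfl⟩; exact mem_invariants_map j hj a)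

include hj in
theorem exists_reynolds_map {I : Ideal R₀} {w : R} (hw : w ∈ I.map j) :
    ∃ a ∈ I, j a = Comod.reynolds R r w := by
  have : ∀ c, ∃ a ∈ I, j a = Comod.reynolds R r (c * w) := by
    induction hw using Submodule.span_induction with
    | mem f hf =>
      obtain ⟨a, ha, rfl⟩ := hf
      intro c
      obtain ⟨b, hb⟩ := exists_reynolds_eq j hj r c
      refine ⟨b * a, I.mul_mem_left b ha, ?_⟩
      rw [map_mul, hb, reynolds_eq_coef, reynolds_eq_coef, coef_mul_invariant _ _ (mem_invariants_map j hj a)]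
    | zero => exact fun c => ⟨0, zero_mem _, by simp⟩
    | add p q _ _ hp hq =>
      intro c
      obtain ⟨a, ha, hpa⟩ := hp c
      obtain ⟨b, hb, hqb⟩ := hq c
      exact ⟨a + b, add_mem ha hb, by rw [map_add, hpa, hqb, mul_add, map_add]⟩
    | smul s p _ hp =>
      intro c
      rw [smul_eq_mul, ← mul_assoc]
      exact hp (c * s)
  simpa using this 1

include hj r in
theorem comap_map_invariants (hinj : Function.Injective j) (I : Ideal R₀) : (I.map j).comap j = I := by
  refine le_antisymm (fun a ha => ?_) Ideal.le_comap_map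
  obtain ⟨b, hb, hab⟩ := exists_reynolds_map j hj r (w := j a) ha
  rw [Comod.reynolds_of_mem r (mem_invariants_map j hj a)] at hab
  exact hinj hab ▸ hb

include hj r in
theorem isNoetherianRing_invariants [IsNoetherianRing R] (hinj : Function.Injective j) : IsNoetherianRing R₀ := by
  refine isNoetherianRing_iff.2 (isNoetherian_iff'.2 ?_)
  exact StrictMono.wellFoundedGT (f := fun I : Ideal R₀ => I.map j)
    (Monotone.strictMono_of_injective (fun I I' h => Ideal.map_mono h)
      (Function.LeftInverse.injective (g := fun J : Ideal R => J.comap j) (comap_map_invariants j hj r hinj)))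

end Descend

end Groth.Agent.LunaEt
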