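import Groth.Agent.LunaEt.Orbit

/-!
Diagonal comodule algebras, quotients by translation-stable ideals, separation by points.
-/
set_option autoImplicit false
set_option linter.unusedSectionVars false
set_option maxHeartbeats 1000000
set_option synthInstance.maxHeartbeats 200000
universe u
open TensorProduct Coalgebra WithConv
noncomputable section

namespace Groth.Agent.LunaEt

variable {k : Type u} [Field k] {A : Type u} [CommRing A] [HopfAlgebra k A]

section Gen

variable {T : Type u} [CommRing T] [Algebra k T] (ρT : T →ₐ[k] T ⊗[k] A)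
variable {S : Type u} [CommRing S] [Algebra k S] [HopfRep.Comod k A S] [GLin.IsCoactAlg k A S] (i : S →ₐ[k] T)
variable (hl : ∀ s, ρT (i s) = Algebra.TensorProduct.map i (AlgHom.id k A) (GLin.coactAlgHom k A S s))

include hl in
theorem coassoc_apply_gen (u : S) :
    TensorProduct.assoc k T A A (ρT.toLinearMap.rTensor A (ρT (i u))) =
      (Coalgebra.comul (R := k) (A := A)).lTensor T (ρT (i u)) := by
  let m : S →ₗ[k] T := i.toLinearMap
  have hm : ∀ t : S ⊗[k] A, Algebra.TensorProduct.map i (AlgHom.id k A) t = m.rTensor A t := fun t => rfl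
  rw [hl, hm]
  have h1 : ∀ t : S ⊗[k] A, ρT.toLinearMap.rTensor A (m.rTensor A t) =
      (m.rTensor A).rTensor A ((GLin.coactAlgHom k A S).toLinearMap.rTensor A t) := fun t => by
    induction t using TensorProduct.induction_on with
    | zero => simp
    | tmul a b =>
      rw [LinearMap.rTensor_tmul, LinearMap.rTensor_tmul, LinearMap.rTensor_tmul, LinearMap.rTensor_tmul]
      show ρT (i a) ⊗ₜ[k] b = _
      rw [hl, hm]
      rfl
    | add a b ha hb => simp only [map_add, ha, hb]
  have h2 : ∀ s : (S ⊗[k] A) ⊗[k] A, TensorProduct.assoc k T A A ((m.rTensor A).rTensor A s) =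
      m.rTensor (A ⊗[k] A) (TensorProduct.assoc k S A A s) := fun s => by
    induction s using TensorProduct.induction_on with
    | zero => simp
    | add a b ha hb => simp only [map_add, ha, hb]
    | tmul t c =>
      induction t using TensorProduct.induction_on with
      | zero => simp
      | tmul a b => simp
      | add a b ha hb => simp only [map_add, TensorProduct.add_tmul, ha, hb]
  have h3 : ∀ t : S ⊗[k] A, m.rTensor (A ⊗[k] A) (comul.lTensor S t) = comul.lTensor T (m.rTensor A t) :=
    fun t => by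
      induction t using TensorProduct.induction_on with
      | zero => simp
      | tmul a b => simp
      | add a b ha hb => simp only [map_add, ha, hb]
  rw [h1, h2, show TensorProduct.assoc k S A A ((GLin.coactAlgHom k A S).toLinearMap.rTensor A
    (GLin.coactAlgHom k A S u)) = comul.lTensor S (GLin.coactAlgHom k A S u) from
    LinearMap.congr_fun HopfRep.Comod.coassoc u, h3]

include hl in
theorem counit_apply_gen (u : S) :
    (Coalgebra.counit (R := k) (A := A)).lTensor T (ρT (i u)) = i u ⊗ₜ[k] (1 : k) := by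
  rw [hl]
  have h3 : ∀ t : S ⊗[k] A, counit.lTensor T (Algebra.TensorProduct.map i (AlgHom.id k A) t) =
      i.toLinearMap.rTensor k (counit.lTensor S t) := fun t => by
    induction t using TensorProduct.induction_on with
    | zero => simp
    | tmul a b => simp
    | add a b ha hb => simp only [map_add, ha, hb]
  rw [h3, show counit.lTensor S (GLin.coactAlgHom k A S u) = u ⊗ₜ (1 : k) from
    LinearMap.congr_fun HopfRep.Comod.counit_comp u]
  rfl

end Gen

variable (k A) (R D : Type u) [CommRing R] [Algebra k R] [HopfRep.Comod k A R] [GLin.IsCoactAlg k A R]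
variable [CommRing D] [Algebra k D] [HopfRep.Comod k A D] [GLin.IsCoactAlg k A D]

/-- the diagonal coaction -/
def diagCoact : R ⊗[k] D →ₐ[k] (R ⊗[k] D) ⊗[k] A :=
  Algebra.TensorProduct.lift
    ((Algebra.TensorProduct.map (Algebra.TensorProduct.includeLeft : R →ₐ[k] R ⊗[k] D) (AlgHom.id k A)).comp
      (GLin.coactAlgHom k A R))
    ((Algebra.TensorProduct.map (Algebra.TensorProduct.includeRight : D →ₐ[k] R ⊗[k] D) (AlgHom.id k A)).comp
      (GLin.coactAlgHom k A D))
    (fun _ _ => Commute.all _ _)

theorem diagCoact_left (f : R) :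
    diagCoact k A R D (f ⊗ₜ 1) = Algebra.TensorProduct.map
      (Algebra.TensorProduct.includeLeft : R →ₐ[k] R ⊗[k] D) (AlgHom.id k A) (GLin.coactAlgHom k A R f) := by
  simp [diagCoact, GLin.IsCoactAlg.coact_one]

theorem diagCoact_right (d : D) :
    diagCoact k A R D ((1 : R) ⊗ₜ d) = Algebra.TensorProduct.map
      (Algebra.TensorProduct.includeRight : D →ₐ[k] R ⊗[k] D) (AlgHom.id k A) (GLin.coactAlgHom k A D d) := by
  simp [diagCoact, GLin.IsCoactAlg.coact_one]

/-- the diagonal comodule -/
@[instance_reducible]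
def diagComod : HopfRep.Comod k A (R ⊗[k] D) where
  coact := (diagCoact k A R D).toLinearMap
  coassoc := by
    let E1 : R ⊗[k] D →ₐ[k] (R ⊗[k] D) ⊗[k] (A ⊗[k] A) :=
      ((Algebra.TensorProduct.assoc k k k (R ⊗[k] D) A A).toAlgHom.comp
        (Algebra.TensorProduct.map (diagCoact k A R D) (AlgHom.id k A))).comp (diagCoact k A R D)
    let E2 : R ⊗[k] D →ₐ[k] (R ⊗[k] D) ⊗[k] (A ⊗[k] A) :=
      (Algebra.TensorProduct.map (AlgHom.id k (R ⊗[k] D)) (Bialgebra.comulAlgHom k A)).comp (diagCoact k A R D)
    have hE : E1 = E2 := Algebra.TensorProduct.ext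
      (AlgHom.ext fun f => coassoc_apply_gen (diagCoact k A R D) Algebra.TensorProduct.includeLeft
        (diagCoact_left k A R D) f)
      (AlgHom.ext fun d => coassoc_apply_gen (diagCoact k A R D) Algebra.TensorProduct.includeRight
        (diagCoact_right k A R D) d)
    exact congrArg AlgHom.toLinearMap hE
  counit_comp := by
    let E1 : R ⊗[k] D →ₐ[k] (R ⊗[k] D) ⊗[k] k :=
      (Algebra.TensorProduct.map (AlgHom.id k _) (Bialgebra.counitAlgHom k A)).comp (diagCoact k A R D)
    let E2 : R ⊗[k] D →ₐ[k] (R ⊗[k] D) ⊗[k] k := Algebra.TensorProduct.includeLeft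
    have hE : E1 = E2 := Algebra.TensorProduct.ext
      (AlgHom.ext fun f => counit_apply_gen (diagCoact k A R D) Algebra.TensorProduct.includeLeft
        (diagCoact_left k A R D) f)
      (AlgHom.ext fun d => counit_apply_gen (diagCoact k A R D) Algebra.TensorProduct.includeRight
        (diagCoact_right k A R D) d)
    exact congrArg AlgHom.toLinearMap hE

attribute [local instance] diagComod

instance diag_isCoactAlg : GLin.IsCoactAlg k A (R ⊗[k] D) :=
  ⟨map_one (diagCoact k A R D), map_mul (diagCoact k A R D)⟩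

variable {k A R D}

theorem transl_tmul (g : A →ₐ[k] k) (f : R) (d : D) :
    transl g (f ⊗ₜ[k] d) = transl g f ⊗ₜ[k] transl g d := by
  have hl : ∀ f : R, transl g (f ⊗ₜ[k] (1 : D)) = transl g f ⊗ₜ 1 := fun f => by
    rw [transl_apply g (R := R), transl_apply g (R := R ⊗[k] D)]
    exact (coef_map (Algebra.TensorProduct.includeLeft : R →ₐ[k] R ⊗[k] D)
      (fun s => diagCoact_left k A R D s) g.toLinearMap f).symm
  have hr : ∀ d : D, transl g ((1 : R) ⊗ₜ[k] d) = 1 ⊗ₜ transl g d := fun d => by
    rw [transl_apply g (R := D), transl_apply g (R := R ⊗[k] D)]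
    exact (coef_map (Algebra.TensorProduct.includeRight : D →ₐ[k] R ⊗[k] D)
      (fun s => diagCoact_right k A R D s) g.toLinearMap d).symm
  rw [show f ⊗ₜ[k] d = (f ⊗ₜ[k] (1 : D)) * ((1 : R) ⊗ₜ[k] d) by simp, map_mul, hl, hr]
  simp

section Separation

variable [IsAlgClosed k] [Algebra.FiniteType k A] [IsReduced A]
variable {V : Type u} [AddCommGroup V] [Module k V]

theorem tensor_eq_zero_of_points {t : V ⊗[k] A} (h : ∀ g : A →ₐ[k] k, Comod.cR g.toLinearMap t = 0) : t = 0 := by
  refine Comod.tensor_eq_of_cL fun φ => ?_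
  rw [map_zero]
  exact GLinFree.eq_zero_of_points (k := k) fun g => by
    show g.toLinearMap (Comod.cL φ t) = 0
    rw [Comod.cR_cL, h g, map_zero]

theorem cR_mem_of_points {W : Submodule k V} {t : V ⊗[k] A} (h : ∀ g : A →ₐ[k] k, Comod.cR g.toLinearMap t ∈ W)
    (ψ : A →ₗ[k] k) : Comod.cR ψ t ∈ W := by
  have h0 : W.mkQ.rTensor A t = 0 := tensor_eq_zero_of_points fun g => by
    rw [Comod.cR_rTensor, Submodule.mkQ_apply, Submodule.Quotient.mk_eq_zero]
    exact h g
  rw [← Submodule.Quotient.mk_eq_zero W, ← Submodule.mkQ_apply, ← Comod.cR_rTensor, h0, map_zero]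

theorem cs_of_forall_transl {S : Type u} [CommRing S] [Algebra k S] [HopfRep.Comod k A S] [GLin.IsCoactAlg k A S]
    {W : Submodule k S} (h : ∀ (g : A →ₐ[k] k), ∀ w ∈ W, transl g w ∈ W) : CS A W := fun c hc ψ =>
  cR_mem_of_points (fun g => transl_apply g c ▸ h g c hc) ψ

end Separation

theorem stable_of_cs {S : Type u} [CommRing S] [Algebra k S] [HopfRep.Comod k A S] [GLin.IsCoactAlg k A S]
    {J : Ideal S} (h : CS A (J.restrictScalars k)) : OrbitCot.Stable k A J := fun _ hy =>
  (OrbitCot.ext_eq_range k A J _).2 (mem_range_of_cs h hy)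

end Groth.Agent.LunaEt
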