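import Groth.Agent.LunaEt.Coeff
import Groth.Agent.LunaEt.Alg
import Groth.Agent.S19401

/-!
Invariants of a finite equivariant map etale at a closed orbit.
-/
set_option autoImplicit false
set_option linter.unusedSectionVars false
universe u
open TensorProduct
noncomputable section

namespace Groth.Agent.LunaEt

variable {k : Type u} [Field k] [IsAlgClosed k] [CharZero k]
variable {A : Type u} [CommRing A] [HopfAlgebra k A] [Algebra.FiniteType k A]
variable {S : Type u} [CommRing S] [Algebra k S] [Algebra.FiniteType k S] [HopfRep.Comod k A S] [GLin.IsCoactAlg k A S]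
variable {R : Type u} [CommRing R] [Algebra k R] [Algebra.FiniteType k R] [HopfRep.Comod k A R] [GLin.IsCoactAlg k A R]
variable [Algebra S R] [IsScalarTower k S R]
variable (hequiv : ∀ s : S, HopfRep.Comod.coact (k := k) (A := A) (algebraMap S R s) =
  Algebra.TensorProduct.map (IsScalarTower.toAlgHom k S R) (AlgHom.id k A) (HopfRep.Comod.coact (k := k) (A := A) s))
variable {S₀ : Type u} [CommRing S₀] [Algebra k S₀] [Algebra S₀ S] [IsScalarTower k S₀ S]
variable (hS₀i : Function.Injective (algebraMap S₀ S))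
variable (hS₀ : (IsScalarTower.toAlgHom k S₀ S).range = GLin.invariants k A S)
variable {R₀ : Type u} [CommRing R₀] [Algebra k R₀] [Algebra R₀ R] [IsScalarTower k R₀ R]
variable (hR₀i : Function.Injective (algebraMap R₀ R))
variable (hR₀ : (IsScalarTower.toAlgHom k R₀ R).range = GLin.invariants k A R)
variable [Algebra S₀ R₀] [Algebra S₀ R] [IsScalarTower S₀ S R] [IsScalarTower S₀ R₀ R]
variable (r : Comod.Integral k A)

include hequiv hS₀ hR₀i hR₀ r in
theorem finite_invariants [Module.Finite S R] : Module.Finite S₀ R₀ := by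
  classical
  let ι := IsScalarTower.toAlgHom k S R
  let i := IsScalarTower.toAlgHom k S₀ S
  haveI : IsNoetherianRing S := Algebra.FiniteType.isNoetherianRing k S
  haveI : IsNoetherian S R := isNoetherian_of_isNoetherianRing_of_finite S R
  obtain ⟨t, ht, hspan⟩ := (Submodule.fg_span_iff_fg_span_finset_subset _).1
    (IsNoetherian.noetherian (Submodule.span S (Set.range (algebraMap R₀ R))))
  choose g hg using fun a (ha : a ∈ t) => ht ha
  refine ⟨⟨t.attach.image fun a => g a.1 a.2, eq_top_iff.2 fun a _ => ?_⟩⟩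
  have h1 : algebraMap R₀ R a ∈ Submodule.span S (t : Set R) := hspan ▸ Submodule.subset_span ⟨a, rfl⟩
  obtain ⟨c, -, hc⟩ := Submodule.mem_span_finset.1 h1
  choose d hd using fun b => exists_reynolds_eq i hS₀ r (c b)
  have hinv : ∀ b : R₀, algebraMap R₀ R b ∈ GLin.invariants k A R := fun b => hR₀ ▸ ⟨b, rfl⟩
  have : a = ∑ b ∈ t.attach, d b.1 • g b.1 b.2 := by
    refine hR₀i ?_
    rw [← Comod.reynolds_of_mem r (hinv a), ← hc, map_sum, map_sum, ← Finset.sum_attach t]
    refine Finset.sum_congr rfl fun b _ => ?_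
    rw [Algebra.smul_def, Algebra.smul_def, map_mul (algebraMap R₀ R), hg, reynolds_eq_coef, coef_mul_invariant _ _ (hg b.1 b.2 ▸ hinv _),
      show algebraMap S R (c b.1) = ι (c b.1) from rfl, ← coef_map ι hequiv, ← reynolds_eq_coef, ← hd,
      ← IsScalarTower.algebraMap_apply S₀ R₀ R, IsScalarTower.algebraMap_apply S₀ S R]
    rfl
  rw [this]
  exact sum_mem fun b _ => Submodule.smul_mem _ _
    (Submodule.subset_span (Finset.mem_coe.2 (Finset.mem_image_of_mem _ (Finset.mem_attach _ b))))

variable (x : R →ₐ[k] k)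

theorem sub_algebraMap_mem_ker {B : Type u} [CommRing B] [Algebra k B] (z : B →ₐ[k] k) (b : B) :
    b - algebraMap k B (z b) ∈ RingHom.ker z := by simp [RingHom.mem_ker]

/-- the prime of a point on the invariants of the base -/
abbrev basePt (x : R →ₐ[k] k) : Ideal S₀ :=
  RingHom.ker ((x.comp (IsScalarTower.toAlgHom k S R)).comp (IsScalarTower.toAlgHom k S₀ S))

theorem isMaximal_ker {B : Type u} [CommRing B] [Algebra k B] (z : B →ₐ[k] k) : (RingHom.ker z).IsMaximal :=
  RingHom.ker_isMaximal_of_surjective z fun c => ⟨algebraMap k B c, AlgHom.commutes z c⟩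

theorem isMaximal_comap (m : Ideal R) (hm : m = RingHom.ker x.toRingHom) :
    (Ideal.comap (algebraMap R₀ R) m).IsMaximal := by
  rw [show Ideal.comap (algebraMap R₀ R) m = RingHom.ker (x.comp (IsScalarTower.toAlgHom k R₀ R)) by
    rw [hm]; rfl]
  exact isMaximal_ker _

theorem liesOver_basePt (m : Ideal R) (hm : m = RingHom.ker x.toRingHom) :
    (Ideal.comap (algebraMap R₀ R) m).LiesOver (basePt (S := S) (S₀ := S₀) x) := ⟨by
  ext a
  simp only [basePt, hm, Ideal.under_def, Ideal.mem_comap, RingHom.mem_ker,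
    ← IsScalarTower.algebraMap_apply S₀ R₀ R, IsScalarTower.algebraMap_apply S₀ S R]
  rfl⟩

include hS₀ r in
/-- A stable ideal of `S` avoiding a point of closed orbit and containing powers of its invariant ideal is trivial. -/
theorem one_mem_of_cs (y : S →ₐ[k] k) (hy : GLin.IsClosedOrbit k A y) (C : Ideal S) (N : ℕ)
    (hC : CS A (C.restrictScalars k)) (hc : ∃ c ∈ C, c ∉ RingHom.ker y)
    (hN : (RingHom.ker (y.comp (IsScalarTower.toAlgHom k S₀ S)) ^ N).map (algebraMap S₀ S) ≤ C) :
    (1 : S) ∈ C := by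
  let p : Ideal S := RingHom.ker y
  let s : Ideal S₀ := RingHom.ker (y.comp (IsScalarTower.toAlgHom k S₀ S))
  have hsp : ∀ a, a ∈ s ↔ algebraMap S₀ S a ∈ p := fun a => Iff.rfl
  obtain ⟨c, hc, hcp⟩ := hc
  obtain ⟨b, hb, hyb, hb1⟩ := exists_invariant_of_cs r y hy hC fun h => hcp (h hc)
  obtain ⟨a, rfl⟩ := (hS₀.ge hb :)
  have h1 : algebraMap S₀ S a ^ N ∈ C := by
    rw [← map_pow]
    exact hN (Ideal.mem_map_of_mem _ (Ideal.pow_mem_pow ((hsp a).2 hyb) N))
  have h2 : 1 - algebraMap S₀ S a ^ N ∈ C := by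
    have := Ideal.mem_of_dvd C (sub_dvd_pow_sub_pow (1 : S) (algebraMap S₀ S a) N) hb1
    rwa [one_pow] at this
  simpa using add_mem h2 h1

include hequiv hS₀i hS₀ hR₀ r in
theorem comap_comp_le (hy : GLin.IsClosedOrbit k A (x.comp (IsScalarTower.toAlgHom k S R))) (m : Ideal R)
    [m.IsMaximal] (hm : m = RingHom.ker x.toRingHom) [Algebra.IsEtaleAt S m] [Algebra.FinitePresentation S R]
    (N : ℕ) (a : S₀)
    (ha : algebraMap S₀ R₀ a ∈ comp (basePt (S := S) (S₀ := S₀) x) (Ideal.comap (algebraMap R₀ R) m) N) :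
    a ∈ basePt (S := S) (S₀ := S₀) x ^ N ∧ ∀ b : S, algebraMap S R b ∈
      (comp (basePt (S := S) (S₀ := S₀) x) (Ideal.comap (algebraMap R₀ R) m) N).map (algebraMap R₀ R) →
      b ∈ (basePt (S := S) (S₀ := S₀) x ^ N).map (algebraMap S₀ S) := by
  let ι := IsScalarTower.toAlgHom k S R
  let i := IsScalarTower.toAlgHom k S₀ S
  let j := IsScalarTower.toAlgHom k R₀ R
  let y := x.comp ι
  let p : Ideal S := RingHom.ker y
  let s : Ideal S₀ := RingHom.ker (y.comp i)
  let n : Ideal R₀ := Ideal.comap (algebraMap R₀ R) m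
  haveI : p.IsPrime := RingHom.ker_isPrime _
  have hmp : m.comap (algebraMap S R) = p := by rw [hm]; rfl
  haveI : IsNoetherianRing S := Algebra.FiniteType.isNoetherianRing k S
  let J : Ideal S := (s ^ N).map (algebraMap S₀ S)
  let Q : Ideal R := (comp s n N).map (algebraMap R₀ R)
  let I : Ideal S := Q.comap (algebraMap S R)
  let Rm := Localization.AtPrime m
  have hI : ∀ b ∈ I, algebraMap S Rm b ∈ J.map (algebraMap S Rm) := by
    have hQ : Q.map (algebraMap R Rm) ≤ J.map (algebraMap S Rm) := by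
      rw [Ideal.map_le_iff_le_comap, Ideal.map_le_iff_le_comap]
      intro b hb
      obtain ⟨f, hf, hfb⟩ := exists_notMem_mul_of_mem_comp s n hb
      rw [Ideal.mem_comap, Ideal.mem_comap]
      have hu : IsUnit (algebraMap R Rm (algebraMap R₀ R f)) :=
        IsLocalization.map_units Rm (M := m.primeCompl) ⟨algebraMap R₀ R f, hf⟩
      have e : J.map (algebraMap S Rm) =
          (((s ^ N).map (algebraMap S₀ R₀)).map (algebraMap R₀ R)).map (algebraMap R Rm) := by
        simp only [J, Ideal.map_map]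
        congr 1
        ext t
        simp only [RingHom.comp_apply, ← IsScalarTower.algebraMap_apply S₀ R₀ R,
          IsScalarTower.algebraMap_apply S R Rm, IsScalarTower.algebraMap_apply S₀ S R]
      rw [← Ideal.unit_mul_mem_iff_mem _ hu, ← map_mul, ← map_mul, e]
      exact Ideal.mem_map_of_mem _ (Ideal.mem_map_of_mem _ hfb)
    intro b hb
    exact hQ (by rw [IsScalarTower.algebraMap_apply S R Rm]; exact Ideal.mem_map_of_mem _ hb)
  obtain ⟨c, hcp, hc⟩ := exists_notMem_mul_mem_ideal m p hmp J I hI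
  let C : Ideal S := Submodule.colon J (I : Set S)
  have hmemC : ∀ d, d ∈ C ↔ ∀ b ∈ I, d * b ∈ J := fun d => by
    simp [C, Submodule.mem_colon]
  have hIcs : CS A (I.restrictScalars k) := cs_comap ι hequiv (cs_map j hR₀ _)
  have hJcs : CS A (J.restrictScalars k) := cs_map i hS₀ _
  have hC : CS A (C.restrictScalars k) := fun d hd φ => by
    rw [Submodule.restrictScalars_mem, hmemC] at hd ⊢
    refine cs_colon (AlgHom.id k S) (fun t => ?_) hJcs hIcs d hd φ
    rw [Algebra.TensorProduct.map_id]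
    rfl
  have h1 : (1 : S) ∈ C := one_mem_of_cs hS₀ r y hy C N hC ⟨c, (hmemC c).2 hc, hcp⟩ fun d hd => (hmemC d).2 fun b _ =>
    J.mul_mem_right b hd
  have haI : algebraMap S₀ S a ∈ I := by
    show algebraMap S R (algebraMap S₀ S a) ∈ Q
    rw [← IsScalarTower.algebraMap_apply, IsScalarTower.algebraMap_apply S₀ R₀ R]
    exact Ideal.mem_map_of_mem _ ha
  have haJ := (hmemC 1).1 h1 _ haI
  rw [one_mul] at haJ
  refine ⟨(comap_map_invariants i hS₀ r hS₀i (s ^ N)).le haJ, fun b hb => ?_⟩
  simpa using (hmemC 1).1 h1 b hb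

include hequiv hS₀ hR₀ r in
theorem exists_sub_mem_map_comp [Module.Finite S R] [Algebra.IsIntegral S₀ R₀] (hx : GLin.IsClosedOrbit k A x) (m : Ideal R)
    [m.IsMaximal] (hm : m = RingHom.ker x.toRingHom) [Algebra.IsEtaleAt S m]
    (hinj : ∀ g : A →ₐ[k] k, GLin.actPt k g (x.comp (IsScalarTower.toAlgHom k S R)) =
      x.comp (IsScalarTower.toAlgHom k S R) → GLin.actPt k g x = x) (N : ℕ) (f : R) :
    ∃ c : S, f - algebraMap S R c ∈
      (comp (basePt (S := S) (S₀ := S₀) x) (Ideal.comap (algebraMap R₀ R) m) N).map (algebraMap R₀ R) := by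
  let ι := IsScalarTower.toAlgHom k S R
  let i := IsScalarTower.toAlgHom k S₀ S
  let j := IsScalarTower.toAlgHom k R₀ R
  let y := x.comp ι
  let p : Ideal S := RingHom.ker y
  let s : Ideal S₀ := RingHom.ker (y.comp i)
  let n : Ideal R₀ := Ideal.comap (algebraMap R₀ R) m
  haveI : p.IsPrime := RingHom.ker_isPrime _
  have hmp : m.comap (algebraMap S R) = p := by rw [hm]; rfl
  haveI : IsNoetherianRing S := Algebra.FiniteType.isNoetherianRing k S
  haveI : s.IsMaximal := isMaximal_ker _
  haveI : n.IsMaximal := isMaximal_comap x m hm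
  haveI : n.LiesOver s := liesOver_basePt x m hm
  have hy : GLin.IsClosedOrbit k A y := (S19401.result k A S R hequiv x).1 hx
  haveI : Algebra.FinitePresentation S R := Algebra.FinitePresentation.of_finiteType.mp inferInstance
  -- uniqueness of the point over `y` and `n`
  have huniq : ∀ z : R →ₐ[k] k, p ≤ (RingHom.ker z).comap (algebraMap S R) →
      n ≤ (RingHom.ker z).comap (algebraMap R₀ R) → z = x := by
    intro z hzp hzn
    have e1 : z.comp ι = y := (GLinFree.point_ext fun a ha => RingHom.mem_ker.2 (RingHom.mem_ker.1 (Ideal.mem_comap.1 (hzp ha)))).symm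
    have e2 : z.comp j = x.comp j := (GLinFree.point_ext fun a ha => RingHom.mem_ker.2
      (RingHom.mem_ker.1 (Ideal.mem_comap.1 (hzn (show algebraMap R₀ R a ∈ m by rw [hm]; exact ha))))).symm
    have hz : GLin.IsClosedOrbit k A z := (S19401.result k A S R hequiv z).2 (by
      show GLin.IsClosedOrbit k A (z.comp ι)
      rw [e1]; exact hy)
    obtain ⟨g, hg⟩ := exists_translate_of_invariants r x z hx hz fun f hf => by
      obtain ⟨a, rfl⟩ := (hR₀.ge hf :)
      exact (AlgHom.congr_fun e2 a).symm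
    rw [← hg]
    refine hinj g ?_
    show _ = y
    rw [← e1, ← hg]
    exact AlgHom.ext fun a => (congrArg g (GLinFree.orbitHom_comp ι hequiv x a)).symm
  let Q : Ideal R := (comp s n N).map (algebraMap R₀ R)
  let W : Submodule S R := LinearMap.range (Algebra.linearMap S R) ⊔ Q.restrictScalars S
  have hsQ : (s ^ N).map (algebraMap S₀ R) ≤ Q := by
    rw [IsScalarTower.algebraMap_eq S₀ R₀ R, ← Ideal.map_map]
    exact Ideal.map_mono (map_pow_le_comp s n N)
  have hW : W ⊔ p • (⊤ : Submodule S R) = ⊤ := by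
    rw [eq_top_iff]
    rintro f -
    let I : Ideal R := Q ⊔ p.map (algebraMap S R)
    have hmI : m ≤ I := by
      intro f hf
      haveI : m.LiesOver p := ⟨hmp.symm⟩
      letI := Localization.AtPrime.algebraOfLiesOver p m
      have hmax := ((Algebra.isUnramifiedAt_iff_map_eq S p m).1 inferInstance).2
      have hf' : algebraMap R (Localization.AtPrime m) f ∈ p.map (algebraMap S (Localization.AtPrime m)) := by
        rw [hmax, IsLocalization.AtPrime.to_map_mem_maximal_iff _ m]
        exact hf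
      rw [IsScalarTower.algebraMap_eq S R, ← Ideal.map_map,
        IsLocalization.algebraMap_mem_map_algebraMap_iff m.primeCompl] at hf'
      obtain ⟨u, hu, huf⟩ := hf'
      have htop : I ⊔ Ideal.span {u} = ⊤ := by
        by_contra h
        obtain ⟨M, hM, hle⟩ := Ideal.exists_le_maximal _ h
        obtain ⟨z, rfl⟩ := GLinFree.exists_point_of_maximal (k := k) M
        have hI : I ≤ RingHom.ker z := le_sup_left.trans hle
        have hQz : comp s n N ≤ (RingHom.ker z).comap (algebraMap R₀ R) :=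
          Ideal.map_le_iff_le_comap.1 (le_sup_left.trans hI)
        haveI : ((RingHom.ker z).comap (algebraMap R₀ R)).IsPrime := Ideal.comap_isPrime _ _
        have hzx := huniq z (Ideal.map_le_iff_le_comap.1 (le_sup_right.trans hI))
          (eq_of_comp_le s n hQz).ge
        exact hu (hm ▸ hzx ▸ hle (Submodule.mem_sup_right (Ideal.mem_span_singleton_self u)))
      obtain ⟨a, ha, b, hb, hab⟩ := Submodule.mem_sup.1 ((Ideal.eq_top_iff_one _).1 htop)
      obtain ⟨v, rfl⟩ := Ideal.mem_span_singleton.1 hb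
      rw [show f = a * f + v * (u * f) by linear_combination (-f) * hab]
      exact add_mem (I.mul_mem_right f ha) (Submodule.mem_sup_right (Ideal.mul_mem_left _ v huf))
    obtain ⟨a, ha, b, hb, hab⟩ := Submodule.mem_sup.1 (hmI (show f - algebraMap k R (x f) ∈ m by
      rw [hm]; exact sub_algebraMap_mem_ker x f))
    rw [show f = algebraMap S R (algebraMap k S (x f)) + a + b by
      rw [← IsScalarTower.algebraMap_apply, add_assoc, hab, add_sub_cancel]]
    refine add_mem (add_mem ?_ ?_) ?_
    · exact Submodule.mem_sup_left (Submodule.mem_sup_left ⟨_, rfl⟩)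
    · exact Submodule.mem_sup_left (Submodule.mem_sup_right ha)
    · refine Submodule.mem_sup_right ?_
      rw [Ideal.smul_top_eq_map]
      exact hb
  have hWcs : CS A (W.restrictScalars k) := by
    have e : W.restrictScalars k = LinearMap.range ι.toLinearMap ⊔ Q.restrictScalars k :=
      le_antisymm (fun w hw => by
        obtain ⟨a, ⟨c, rfl⟩, b, hb, rfl⟩ := Submodule.mem_sup.1 hw
        exact Submodule.add_mem_sup ⟨c, rfl⟩ hb)
        (sup_le (by rintro _ ⟨c, rfl⟩; exact Submodule.mem_sup_left ⟨c, rfl⟩)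
          (fun w hw => Submodule.mem_sup_right hw))
    rw [e]
    exact cs_sup (cs_range ι hequiv) (cs_map j hR₀ _)
  let C : Ideal S := W.colon ((⊤ : Submodule S R) : Set R)
  have hmemC : ∀ c, c ∈ C ↔ ∀ f, algebraMap S R c * f ∈ W := fun c => by
    simp only [C, Submodule.mem_colon, Submodule.top_coe, Set.mem_univ, forall_const, Algebra.smul_def]
  have hC : CS A (C.restrictScalars k) := fun c hc φ => by
    rw [Submodule.restrictScalars_mem, hmemC] at hc ⊢
    exact fun f => cs_colon ι hequiv hWcs cs_top c (fun t _ => hc t) φ f trivial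
  obtain ⟨c, hcp, hc⟩ := exists_notMem_smul_mem p W hW
  have h1 : (1 : S) ∈ C := one_mem_of_cs hS₀ r y hy C N hC ⟨c, (hmemC c).2 fun f => by
    rw [← Algebra.smul_def]; exact hc f, hcp⟩ (Ideal.map_le_iff_le_comap.2 fun a ha => (hmemC _).2 fun f => by
      rw [← IsScalarTower.algebraMap_apply]
      exact Submodule.mem_sup_right (Q.mul_mem_right f (hsQ (Ideal.mem_map_of_mem _ ha))))
  have hf := (hmemC 1).1 h1 f
  rw [map_one, one_mul] at hf
  obtain ⟨_, ⟨c', rfl⟩, w, hw, hcw⟩ := Submodule.mem_sup.1 hf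
  refine ⟨c', ?_⟩
  rw [← hcw, Algebra.linearMap_apply, add_sub_cancel_left]
  exact hw

include hequiv hS₀i hS₀ hR₀i hR₀ r in
theorem isEtaleAt_invariants [Module.Finite S R] (hx : GLin.IsClosedOrbit k A x) (m : Ideal R) [m.IsMaximal]
    (hm : m = RingHom.ker x.toRingHom) (het : Algebra.IsEtaleAt S m)
    (hinj : ∀ g : A →ₐ[k] k, GLin.actPt k g (x.comp (IsScalarTower.toAlgHom k S R)) =
      x.comp (IsScalarTower.toAlgHom k S R) → GLin.actPt k g x = x) :
    Algebra.IsEtaleAt S₀ (Ideal.comap (algebraMap R₀ R) m) := by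
  haveI := het
  let ι := IsScalarTower.toAlgHom k S R
  let i := IsScalarTower.toAlgHom k S₀ S
  let j := IsScalarTower.toAlgHom k R₀ R
  let y := x.comp ι
  let p : Ideal S := RingHom.ker y
  let s : Ideal S₀ := RingHom.ker (y.comp i)
  let n : Ideal R₀ := Ideal.comap (algebraMap R₀ R) m
  have hy : GLin.IsClosedOrbit k A y := (S19401.result k A S R hequiv x).1 hx
  haveI : IsNoetherianRing S := Algebra.FiniteType.isNoetherianRing k S
  haveI : IsNoetherianRing S₀ := isNoetherianRing_invariants i hS₀ r hS₀i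
  haveI : Algebra.FinitePresentation S R := Algebra.FinitePresentation.of_finiteType.mp inferInstance
  haveI : Module.Finite S₀ R₀ := finite_invariants hequiv hS₀ hR₀i hR₀ r
  haveI hsmax : s.IsMaximal :=
    RingHom.ker_isMaximal_of_surjective _ fun c => ⟨algebraMap k S₀ c, AlgHom.commutes _ c⟩
  haveI hnmax : n.IsMaximal := by
    rw [show n = RingHom.ker (x.comp j) by simp only [n, hm]; rfl]
    exact RingHom.ker_isMaximal_of_surjective _ fun c => ⟨algebraMap k R₀ c, AlgHom.commutes _ c⟩
  haveI : n.LiesOver s := ⟨by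
    ext a
    simp only [s, n, hm, Ideal.under_def, Ideal.mem_comap, RingHom.mem_ker,
      ← IsScalarTower.algebraMap_apply S₀ R₀ R, IsScalarTower.algebraMap_apply S₀ S R]
    rfl⟩
  have hmp : m.comap (algebraMap S R) = p := by rw [hm]; rfl
  haveI : p.IsPrime := RingHom.ker_isPrime _
  have hsp : ∀ a, a ∈ s ↔ algebraMap S₀ S a ∈ p := fun a => Iff.rfl
  refine isEtaleAt_of_truncations s n (fun N f => ?_) (fun N a ha => ?_)
  · obtain ⟨c', hw⟩ := exists_sub_mem_map_comp hequiv hS₀ hR₀ r x hx m hm hinj N (algebraMap R₀ R f)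
    obtain ⟨a, ha⟩ := exists_reynolds_eq i hS₀ r c'
    obtain ⟨b, hb, hbw⟩ := exists_reynolds_map j hR₀ r (I := comp s n N) hw
    refine ⟨a, ?_⟩
    have : algebraMap R₀ R (f - algebraMap S₀ R₀ a) = j b := by
      rw [hbw, map_sub, map_sub, Comod.reynolds_of_mem r (v := algebraMap R₀ R f) (mem_invariants_map j hR₀ f),
        ← IsScalarTower.algebraMap_apply, IsScalarTower.algebraMap_apply S₀ S R,
        show algebraMap S R (algebraMap S₀ S a) = ι (i a) from rfl, ha, reynolds_eq_coef, reynolds_eq_coef,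
        coef_map ι hequiv]
      rfl
    rw [hR₀i this]
    exact hb
  · exact (comap_comp_le hequiv hS₀i hS₀ hR₀ r x hy m hm N a ha).1

end Groth.Agent.LunaEt
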