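import Groth.Agent.LunaEt.Coeff
import Groth.Agent.GLRed.Stab
import Mathlib.RingTheory.Etale.Locus
import Mathlib.RingTheory.RingHom.Etale

/-!
Closedness of orbits with equal orbit rings, translations, stable vanishing ideals.
-/
set_option autoImplicit false
set_option maxHeartbeats 800000
set_option linter.unusedSectionVars false
universe u
open TensorProduct Coalgebra WithConv
noncomputable section

namespace Groth.Agent.LunaEt

variable {k : Type u} [Field k] {A : Type u} [CommRing A] [HopfAlgebra k A]
variable {R : Type u} [CommRing R] [Algebra k R] [HopfRep.Comod k A R] [GLin.IsCoactAlg k A R]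

section Range

variable [IsAlgClosed k] [CharZero k] [Algebra.FiniteType k A]

theorem isClosedOrbit_iff_surjective (x : R →ₐ[k] k) : GLin.IsClosedOrbit k A x ↔
    Function.Surjective (PrimeSpectrum.comap (algebraMap (GLin.orbitHom k A x).range A)) := by
  refine ⟨GLinFree.comap_val_surjective x, fun h => ?_⟩
  let π := (GLin.orbitHom k A x).rangeRestrict.toRingHom
  have hπ : Function.Surjective π := AlgHom.rangeRestrict_surjective _
  show IsClosed _
  rw [show (GLin.orbitHom k A x).toRingHom = (algebraMap (GLin.orbitHom k A x).range A).comp π from rfl,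
    PrimeSpectrum.comap_comp, Set.range_comp, h.range_eq, Set.image_univ,
    _root_.range_comap_of_surjective _ π hπ]
  exact PrimeSpectrum.isClosed_zeroLocus _

variable {S : Type u} [CommRing S] [Algebra k S] [HopfRep.Comod k A S] [GLin.IsCoactAlg k A S]

/-- Closedness of an orbit depends only on the ring of functions on it. -/
theorem isClosedOrbit_of_range_eq (x : R →ₐ[k] k) (y : S →ₐ[k] k)
    (h : (GLin.orbitHom k A x).range = (GLin.orbitHom k A y).range) (hy : GLin.IsClosedOrbit k A y) :
    GLin.IsClosedOrbit k A x := by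
  rw [isClosedOrbit_iff_surjective] at hy ⊢
  rw [h]
  exact hy

end Range

section Descent

variable [IsAlgClosed k] [CharZero k] [Algebra.FiniteType k A]
variable {S : Type u} [CommRing S] [Algebra k S] [HopfRep.Comod k A S] [GLin.IsCoactAlg k A S]

/-- Convolution only sees the left factor on the orbit ring. -/
theorem convMul_orbitHom {B : Type u} [CommRing B] [Algebra k B] (x : R →ₐ[k] k) (g g' h : WithConv (A →ₐ[k] B))
    (he : ∀ u, g.ofConv (GLin.orbitHom k A x u) = g'.ofConv (GLin.orbitHom k A x u)) (f : R) :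
    (g * h).ofConv (GLin.orbitHom k A x f) = (g' * h).ofConv (GLin.orbitHom k A x f) := by
  rw [AlgHom.convMul_apply, AlgHom.convMul_apply, OrbitCot.comul_orbitHom]
  generalize GLin.coactAlgHom k A R f = t
  induction t using TensorProduct.induction_on with
  | zero => simp
  | tmul a b => simp [he]
  | add a b ha hb => simp only [map_add, ha, hb]

/-- the convolution inverse of an algebra map -/
theorem conv_antipode {B : Type u} [CommRing B] [Algebra k B] (h : A →ₐ[k] B) :
    toConv h * toConv (h.comp (HopfAlgebra.antipodeAlgHom k A)) = 1 ∧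
      toConv (h.comp (HopfAlgebra.antipodeAlgHom k A)) * toConv h = 1 := by
  constructor
  · ext a
    rw [AlgHom.convMul_apply]
    trans h (LinearMap.mul' k A ((HopfAlgebra.antipode k (A := A)).lTensor A (comul (R := k) a)))
    · generalize comul (R := k) a = t
      induction t using TensorProduct.induction_on with
      | zero => simp
      | tmul p q => simp
      | add p q hp hq => simp only [map_add, hp, hq]
    · rw [HopfAlgebra.mul_antipode_lTensor_comul_apply]
      exact h.commutes _
  · ext a
    rw [AlgHom.convMul_apply]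
    trans h (LinearMap.mul' k A ((HopfAlgebra.antipode k (A := A)).rTensor A (comul (R := k) a)))
    · generalize comul (R := k) a = t
      induction t using TensorProduct.induction_on with
      | zero => simp
      | tmul p q => simp
      | add p q hp hq => simp only [map_add, hp, hq]
    · rw [HopfAlgebra.mul_antipode_rTensor_comul_apply]
      exact h.commutes _

theorem conv_cancel_right {B : Type u} [CommRing B] [Algebra k B] (g h : A →ₐ[k] B) :
    toConv g * toConv (h.comp (HopfAlgebra.antipodeAlgHom k A)) * toConv h = toConv g := by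
  rw [mul_assoc, (conv_antipode h).2, mul_one]

variable [Algebra.FiniteType k R] [Algebra S R] [IsScalarTower k S R]
variable (hequiv : ∀ s : S, HopfRep.Comod.coact (k := k) (A := A) (algebraMap S R s) =
  Algebra.TensorProduct.map (IsScalarTower.toAlgHom k S R) (AlgHom.id k A) (HopfRep.Comod.coact (k := k) (A := A) s))

include hequiv in
theorem range_orbitHom_comp_le (x : R →ₐ[k] k) :
    (GLin.orbitHom k A (x.comp (IsScalarTower.toAlgHom k S R))).range ≤ (GLin.orbitHom k A x).range := by
  rintro _ ⟨s, rfl⟩
  exact ⟨algebraMap S R s, GLinFree.orbitHom_comp (IsScalarTower.toAlgHom k S R) hequiv x s⟩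

include hequiv in
/-- At an unramified point over a closed orbit with the same stabilisers the orbit rings agree. -/
theorem range_orbitHom_eq (x : R →ₐ[k] k) (hy : GLin.IsClosedOrbit k A (x.comp (IsScalarTower.toAlgHom k S R)))
    (m : Ideal R) [m.IsPrime] (hm : m = RingHom.ker x.toRingHom) [Algebra.IsUnramifiedAt S m]
    (hinj : ∀ g : A →ₐ[k] k, GLin.actPt k g (x.comp (IsScalarTower.toAlgHom k S R)) =
      x.comp (IsScalarTower.toAlgHom k S R) → GLin.actPt k g x = x) :
    (GLin.orbitHom k A x).range = (GLin.orbitHom k A (x.comp (IsScalarTower.toAlgHom k S R))).range := by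
  let y := x.comp (IsScalarTower.toAlgHom k S R)
  let φy := GLin.orbitHom k A y
  let φx := GLin.orbitHom k A x
  let I : Ideal A := GLin.stabIdeal k A y
  let B := A ⧸ I
  let ψ1 : R →ₐ[k] B := (Ideal.Quotient.mkₐ k I).comp φx
  let ψ0 : R →ₐ[k] B := (Algebra.ofId k B).comp x
  have hS : ∀ s : S, ψ1 (algebraMap S R s) = ψ0 (algebraMap S R s) := by
    intro s
    show Ideal.Quotient.mk I (φx (algebraMap S R s)) = algebraMap k B (y s)
    rw [show φx (algebraMap S R s) = φy s from GLinFree.orbitHom_comp (IsScalarTower.toAlgHom k S R) hequiv x s,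
      ← Ideal.Quotient.mk_algebraMap, Ideal.Quotient.eq, ← AlgHom.commutes φy, ← map_sub]
    exact Ideal.mem_map_of_mem _ (by simp [RingHom.mem_ker])
  letI : Algebra S B := (ψ0.toRingHom.comp (algebraMap S R)).toAlgebra
  haveI : IsJacobsonRing B := isJacobsonRing_of_finiteType (A := k)
  have hnil : ∀ u, ψ1 u - ψ0 u ∈ nilradical B := by
    intro u
    have hj : ψ1 u - ψ0 u ∈ Ideal.jacobson (nilradical B) := Submodule.mem_sInf.2 fun M hM => by
      haveI := hM.2
      obtain ⟨g, rfl⟩ := GLinFree.exists_point_of_maximal (k := k) M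
      let g' : A →ₐ[k] k := g.comp (Ideal.Quotient.mkₐ k I)
      have hle : I ≤ RingHom.ker g' := fun a ha => by
        show g (Ideal.Quotient.mk I a) = 0
        rw [Ideal.Quotient.eq_zero_iff_mem.2 ha, map_zero]
      have hgx := hinj g' (GLRed.stabIdeal_le_ker_iff.1 hle)
      rw [RingHom.mem_ker, map_sub, sub_eq_zero]
      show GLin.actPt k g' x u = g (algebraMap k B (x u))
      rw [hgx, AlgHom.commutes]
      rfl
    rwa [IsJacobsonRing.out inferInstance (show (nilradical B).IsRadical from Ideal.radical_isRadical _)] at hj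
  have hu0 : ∀ u, u ∉ m → IsUnit (ψ0 u) := fun u hu =>
    (IsUnit.mk0 (x u) (fun h => hu (hm ▸ h))).map (algebraMap k B)
  have hu1 : ∀ u, u ∉ m → IsUnit (ψ1 u) := fun u hu => by
    have h := IsNilpotent.isUnit_add_left_of_commute (mem_nilradical.1 (hnil u)) (hu0 u hu) (Commute.all _ _)
    rwa [add_sub_cancel] at h
  let Rm := Localization.AtPrime m
  let ψ0S : R →ₐ[S] B := { ψ0.toRingHom with commutes' := fun s => rfl }
  let ψ1S : R →ₐ[S] B := { ψ1.toRingHom with commutes' := fun s => hS s }
  let L0 : Rm →ₐ[S] B := IsLocalization.liftAlgHom (M := m.primeCompl) (f := ψ0S) fun u => hu0 _ u.2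
  let L1 : Rm →ₐ[S] B := IsLocalization.liftAlgHom (M := m.primeCompl) (f := ψ1S) fun u => hu1 _ u.2
  have hL0 : ∀ u, L0 (algebraMap R Rm u) = ψ0 u := fun u => IsLocalization.lift_eq _ _
  have hL1 : ∀ u, L1 (algebraMap R Rm u) = ψ1 u := fun u => IsLocalization.lift_eq _ _
  haveI : IsNoetherianRing B := Algebra.FiniteType.isNoetherianRing k B
  have hN : IsNilpotent (nilradical B) := IsNoetherianRing.isNilpotent_nilradical B
  have hLeq : L1 = L0 := by
    refine Algebra.FormallyUnramified.lift_unique (nilradical B) hN L1 L0 ?_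
    apply IsLocalization.algHom_ext m.primeCompl
    ext u
    show Ideal.Quotient.mk _ (L1 (algebraMap R Rm u)) = Ideal.Quotient.mk _ (L0 (algebraMap R Rm u))
    rw [hL0, hL1, Ideal.Quotient.eq]
    exact hnil u
  have hψ : ∀ u, ψ1 u = ψ0 u := fun u => by rw [← hL1, hLeq, hL0]
  -- descent along the base orbit
  refine le_antisymm ?_ (range_orbitHom_comp_le hequiv x)
  rintro _ ⟨f, rfl⟩
  let D := φy.range
  haveI := GLinFree.faithfullyFlat_orbit y hy
  let i₁ : A →ₐ[k] A ⊗[D] A :=
    (Algebra.TensorProduct.includeLeft : A →ₐ[D] A ⊗[D] A).restrictScalars k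
  let i₂ : A →ₐ[k] A ⊗[D] A :=
    (Algebra.TensorProduct.includeRight : A →ₐ[D] A ⊗[D] A).restrictScalars k
  let i₂' : WithConv (A →ₐ[k] A ⊗[D] A) := toConv (i₂.comp (HopfAlgebra.antipodeAlgHom k A))
  let γ : WithConv (A →ₐ[k] A ⊗[D] A) := toConv i₁ * i₂'
  have h12 : ∀ s, i₁ (φy s) = i₂ (φy s) := fun s => by
    show (φy s) ⊗ₜ[D] (1 : A) = (1 : A) ⊗ₜ[D] (φy s)
    have := TensorProduct.smul_tmul (R := D) (⟨φy s, s, rfl⟩ : D) (1 : A) (1 : A)
    simpa [Algebra.smul_def] using this
  have hγy : ∀ s, γ.ofConv (φy s) = algebraMap k _ (y s) := fun s => by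
    rw [convMul_orbitHom (B := A ⊗[D] A) y (toConv i₁) (toConv i₂) i₂' h12 s, (conv_antipode i₂).1,
      ← GLinFree.counit_orbit (A := A) y s]
    rfl
  have hγI : I ≤ RingHom.ker γ.ofConv := Ideal.map_le_iff_le_comap.2 fun s hs => by
    show γ.ofConv (φy s) = 0
    rw [hγy, show y s = 0 from hs, map_zero]
  have hγx : ∀ u, γ.ofConv (φx u) = algebraMap k _ (x u) := fun u => by
    have h0 : φx u - algebraMap k A (x u) ∈ I := by
      rw [← Ideal.Quotient.eq, Ideal.Quotient.mk_algebraMap]
      exact hψ u
    have := RingHom.mem_ker.1 (hγI h0)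
    rwa [map_sub, AlgHom.commutes, sub_eq_zero] at this
  have hc : i₁ (φx f) = i₂ (φx f) := by
    have e : toConv i₁ = γ * toConv i₂ := by
      show toConv i₁ = toConv i₁ * toConv (i₂.comp (HopfAlgebra.antipodeAlgHom k A)) * toConv i₂
      exact (conv_cancel_right i₁ i₂).symm
    calc i₁ (φx f) = (γ * toConv i₂).ofConv (φx f) := by rw [← e]
      _ = (1 * toConv i₂ : WithConv (A →ₐ[k] A ⊗[D] A)).ofConv (φx f) :=
          convMul_orbitHom (B := A ⊗[D] A) x γ 1 (toConv i₂) (fun u => by
            rw [hγx, ← GLinFree.counit_orbit (A := A) x u]; rfl) f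
      _ = i₂ (φx f) := congrArg (fun F : WithConv (A →ₐ[k] A ⊗[D] A) => F.ofConv (φx f)) (one_mul (toConv i₂))
  let q := (LinearMap.range (Algebra.linearMap D A)).mkQ
  have h4 : TensorProduct.mk D A (A ⧸ LinearMap.range (Algebra.linearMap D A)) 1 (q (φx f)) = 0 := by
    have e1 : (φx f) ⊗ₜ[D] q (1 : A) = (1 : A) ⊗ₜ[D] q (φx f) :=
      congrArg (q.lTensor A) (show (φx f) ⊗ₜ[D] (1 : A) = (1 : A) ⊗ₜ[D] (φx f) from hc)
    rw [show q (1 : A) = 0 from (Submodule.Quotient.mk_eq_zero _).2 ⟨1, by simp⟩, TensorProduct.tmul_zero] at e1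
    exact e1.symm
  obtain ⟨c, hc'⟩ := (Submodule.Quotient.mk_eq_zero _).1
    ((map_eq_zero_iff _ (Module.FaithfullyFlat.tensorProduct_mk_injective (A := D) (B := A) _)).1 h4)
  rw [show (GLin.orbitHom k A x).toRingHom f = φx f from rfl, ← hc']
  exact c.2

end Descent

section Translation

/-- translation of functions by a rational point of the group -/
def transl (g : A →ₐ[k] k) : R →ₐ[k] R :=
  (Algebra.TensorProduct.rid k k R).toAlgHom.comp
    ((Algebra.TensorProduct.map (AlgHom.id k R) g).comp (GLin.coactAlgHom k A R))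

theorem transl_apply (g : A →ₐ[k] k) (f : R) : transl g f = coef g.toLinearMap f := by
  show _ = Comod.cR g.toLinearMap (GLin.coactAlgHom k A R f)
  show (Algebra.TensorProduct.rid k k R).toAlgHom
    (Algebra.TensorProduct.map (AlgHom.id k R) g (GLin.coactAlgHom k A R f)) = _
  generalize GLin.coactAlgHom k A R f = t
  induction t using TensorProduct.induction_on with
  | zero => simp
  | tmul a b => simp
  | add a b ha hb => simp only [map_add, ha, hb]

theorem transl_transl (g h : WithConv (A →ₐ[k] k)) (f : R) :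
    transl g.ofConv (transl h.ofConv f) = transl (g * h).ofConv f := by
  rw [transl_apply, transl_apply, transl_apply]
  show Comod.dact k A R (toConv g.ofConv.toLinearMap) (Comod.dact k A R (toConv h.ofConv.toLinearMap) f) =
    Comod.dact k A R (toConv (g * h).ofConv.toLinearMap) f
  rw [← Module.End.mul_apply, ← map_mul, AlgHom.toLinearMap_convMul]

theorem transl_one (f : R) : transl (1 : WithConv (A →ₐ[k] k)).ofConv f = f := by
  rw [transl_apply]
  show Comod.dact k A R (toConv (1 : WithConv (A →ₐ[k] k)).ofConv.toLinearMap) f = f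
  rw [AlgHom.toLinearMap_convOne, map_one]
  rfl

/-- translation as an automorphism -/
def translEquiv (g : WithConv (A →ₐ[k] k)) : R ≃ₐ[k] R :=
  AlgEquiv.ofAlgHom (transl g.ofConv) (transl g⁻¹.ofConv)
    (AlgHom.ext fun f => by rw [AlgHom.comp_apply, transl_transl, mul_inv_cancel, transl_one]; rfl)
    (AlgHom.ext fun f => by rw [AlgHom.comp_apply, transl_transl, inv_mul_cancel, transl_one]; rfl)

theorem apply_transl (g : A →ₐ[k] k) (z : R →ₐ[k] k) (f : R) : z (transl g f) = GLin.actPt k g z f := by
  rw [transl_apply, ← apply_orbitHom]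
  rfl

variable {S : Type u} [CommRing S] [Algebra k S] [HopfRep.Comod k A S] [GLin.IsCoactAlg k A S]
variable [Algebra S R] [IsScalarTower k S R]
variable (hequiv : ∀ s : S, HopfRep.Comod.coact (k := k) (A := A) (algebraMap S R s) =
  Algebra.TensorProduct.map (IsScalarTower.toAlgHom k S R) (AlgHom.id k A) (HopfRep.Comod.coact (k := k) (A := A) s))

include hequiv in
/-- Etale loci are stable under translations. -/
theorem isEtaleAt_actPt [Algebra.FinitePresentation S R] (z : R →ₐ[k] k) (g : A →ₐ[k] k)
    (h : (⟨RingHom.ker z, RingHom.ker_isPrime _⟩ : PrimeSpectrum R) ∈ Algebra.etaleLocus S R) :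
    (⟨RingHom.ker (GLin.actPt k g z), RingHom.ker_isPrime _⟩ : PrimeSpectrum R) ∈ Algebra.etaleLocus S R := by
  haveI : (RingHom.ker z).IsPrime := RingHom.ker_isPrime _
  haveI : Algebra.IsEtaleAt S (RingHom.ker z) := h
  obtain ⟨f, hf, he⟩ := Algebra.exists_etale_of_isEtaleAt (R := S) (RingHom.ker z)
  let G : WithConv (A →ₐ[k] k) := toConv g
  let σ : R ≃ₐ[k] R := translEquiv G⁻¹
  let τ : S ≃ₐ[k] S := translEquiv G
  let f' := σ f
  let e : Localization.Away f ≃+* Localization.Away f' :=
    IsLocalization.ringEquivOfRingEquiv (M := Submonoid.powers f) (T := Submonoid.powers f')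
      (Localization.Away f) (Localization.Away f') σ.toRingEquiv (Submonoid.map_powers _ _)
  have hcomp : algebraMap S (Localization.Away f') =
      (e.toRingHom.comp (algebraMap S (Localization.Away f))).comp τ.toRingEquiv.toRingHom := by
    ext s
    show _ = e (algebraMap S (Localization.Away f) (transl g s))
    rw [IsScalarTower.algebraMap_apply S R (Localization.Away f),
      show ∀ u, e (algebraMap R (Localization.Away f) u) = algebraMap R (Localization.Away f') (σ u) from
        fun u => IsLocalization.ringEquivOfRingEquiv_eq _ _,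
      IsScalarTower.algebraMap_apply S R (Localization.Away f')]
    congr 1
    show algebraMap S R s = transl G⁻¹.ofConv (algebraMap S R (transl g s))
    rw [transl_apply g, show algebraMap S R (coef g.toLinearMap s) =
      IsScalarTower.toAlgHom k S R (coef g.toLinearMap s) from rfl, coef_map _ hequiv, ← transl_apply,
      show g = G.ofConv from rfl, transl_transl, inv_mul_cancel, transl_one]
    rfl
  have : Algebra.Etale S (Localization.Away f') := by
    rw [← RingHom.etale_algebraMap, hcomp]
    exact RingHom.Etale.stableUnderComposition _ _ (RingHom.Etale.of_bijective τ.toRingEquiv.bijective)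
      (RingHom.Etale.stableUnderComposition _ _ (RingHom.etale_algebraMap.2 he)
        (RingHom.Etale.of_bijective e.bijective))
  refine Algebra.basicOpen_subset_etaleLocus_iff_etale.2 this
    (show f' ∉ (⟨RingHom.ker (GLin.actPt k g z), RingHom.ker_isPrime _⟩ : PrimeSpectrum R).asIdeal from fun h' => hf ?_)
  rw [RingHom.mem_ker] at h' ⊢
  rw [← h', ← apply_transl]
  show z f = z (transl G.ofConv (transl G⁻¹.ofConv f))
  rw [transl_transl, mul_inv_cancel, transl_one]

variable [IsAlgClosed k] [CharZero k] [Algebra.FiniteType k A] [Algebra.FiniteType k R]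

/-- An open set with stable rational points has a stable ideal of its complement. -/
theorem exists_cs_of_isOpen {U : Set (PrimeSpectrum R)} (hU : IsOpen U)
    (hst : ∀ (z : R →ₐ[k] k) (g : A →ₐ[k] k), (⟨RingHom.ker z, RingHom.ker_isPrime _⟩ : PrimeSpectrum R) ∈ U →
      (⟨RingHom.ker (GLin.actPt k g z), RingHom.ker_isPrime _⟩ : PrimeSpectrum R) ∈ U) :
    ∃ J : Ideal R, CS A (J.restrictScalars k) ∧ ∀ p : PrimeSpectrum R, p ∈ U ↔ ¬ J ≤ p.asIdeal := by
  haveI : IsReduced A := HopfCartier.isReduced (k := k)
  haveI : IsJacobsonRing R := isJacobsonRing_of_finiteType (A := k)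
  let J := PrimeSpectrum.vanishingIdeal Uᶜ
  have hmem : ∀ p : PrimeSpectrum R, p ∈ U ↔ ¬ J ≤ p.asIdeal := fun p => by
    have e : p ∈ PrimeSpectrum.zeroLocus (J : Set R) ↔ p ∈ Uᶜ := by
      rw [PrimeSpectrum.zeroLocus_vanishingIdeal_eq_closure, hU.isClosed_compl.closure_eq]
    rw [show J ≤ p.asIdeal ↔ p ∈ PrimeSpectrum.zeroLocus (J : Set R) from Iff.rfl, e, Set.mem_compl_iff, not_not]
  refine ⟨J, fun c hc φ => ?_, hmem⟩
  have hrad : J.IsRadical := PrimeSpectrum.isRadical_vanishingIdeal _
  rw [Submodule.restrictScalars_mem, ← IsJacobsonRing.out inferInstance hrad]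
  refine Submodule.mem_sInf.2 fun M hM => ?_
  haveI := hM.2
  obtain ⟨z, rfl⟩ := GLinFree.exists_point_of_maximal (k := k) M
  have h0 : GLin.orbitHom k A z c = 0 := GLinFree.eq_zero_of_points (k := k) fun g => by
    have hz : ¬ (⟨RingHom.ker z, RingHom.ker_isPrime _⟩ : PrimeSpectrum R) ∈ U := fun h => (hmem _).1 h hM.1
    have hgz : J ≤ RingHom.ker (GLin.actPt k g z) := by
      by_contra h
      have h2 := hst _ ((toConv g)⁻¹).ofConv ((hmem ⟨_, RingHom.ker_isPrime _⟩).2 h)
      simp only [actPt_inv] at h2
      exact hz h2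
    exact RingHom.mem_ker.1 (hgz hc)
  show z (coef φ c) = 0
  rw [coef_apply, ← GLRed.apply_orbitHom_cR z φ c, h0, map_zero]

end Translation

end Groth.Agent.LunaEt
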