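import Mathlib

/-!
Etaleness of slices: quotients of `R ⊗ D` by a semilinear family of equations with prescribed differentials.
-/
set_option autoImplicit false
set_option maxHeartbeats 1000000
set_option synthInstance.maxHeartbeats 200000
universe u
open TensorProduct
noncomputable section

namespace Groth.Agent.LunaEt

variable {k R D : Type u} [CommRing k] [CommRing R] [CommRing D] [Algebra k R] [Algebra k D]

/-- `f ⊗ d ↦ φ f • D d` -/
def dRight (φ : R →ₐ[k] D) : R ⊗[k] D →ₗ[k] Ω[D⁄k] :=
  TensorProduct.lift (LinearMap.mk₂ k (fun f d => φ f • KaehlerDifferential.D k D d)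
    (fun a b d => by rw [map_add, add_smul]) (fun c a d => by rw [map_smul, smul_assoc])
    (fun a d e => by rw [map_add, smul_add]) (fun c a d => by rw [Derivation.map_smul, smul_comm]))

@[simp] theorem dRight_tmul (φ : R →ₐ[k] D) (f : R) (d : D) :
    dRight φ (f ⊗ₜ d) = φ f • KaehlerDifferential.D k D d := rfl

theorem formallyEtale_of_sections [Algebra.FormallySmooth k D] [Algebra.EssFiniteType k D] (φ : R →ₐ[k] D)
    (u : Ω[D⁄k] → R ⊗[k] D) (hadd : ∀ a b, u (a + b) = u a + u b)
    (hsmul : ∀ (d : D) (ω : Ω[D⁄k]), u (d • ω) = ((1 : R) ⊗ₜ[k] d) * u ω)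
    (hu : ∀ ω, dRight φ (u ω) = ω) (K : Ideal (R ⊗[k] D)) (hK : K = Ideal.span (Set.range u))
    (m : Ideal ((R ⊗[k] D) ⧸ K)) [m.IsPrime]
    (hm : ∀ f : R, Ideal.Quotient.mk K (f ⊗ₜ[k] (1 : D) - (1 : R) ⊗ₜ[k] φ f) ∈ m)
    (Cm : Type u) [CommRing Cm] [IsLocalRing Cm] [Algebra R Cm] [Algebra k Cm] [IsScalarTower k R Cm]
    [Algebra ((R ⊗[k] D) ⧸ K) Cm] [IsScalarTower R ((R ⊗[k] D) ⧸ K) Cm] [IsLocalization.AtPrime Cm m] :
    Algebra.FormallyEtale R Cm := by
  let T := R ⊗[k] D
  let q : T →ₐ[R] Cm := (IsScalarTower.toAlgHom R (T ⧸ K) Cm).comp (Ideal.Quotient.mkₐ R K)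
  have hqu : ∀ ω, q (u ω) = 0 := fun ω => by
    show algebraMap (T ⧸ K) Cm (Ideal.Quotient.mk K (u ω)) = 0
    rw [Ideal.Quotient.eq_zero_iff_mem.2 (hK.symm ▸ Ideal.subset_span ⟨ω, rfl⟩), map_zero]
  let ι : D →ₐ[k] Cm := (q.restrictScalars k).comp Algebra.TensorProduct.includeRight
  letI : Algebra D Cm := ι.toRingHom.toAlgebra
  haveI : IsScalarTower k D Cm := IsScalarTower.of_algebraMap_eq fun c => (ι.commutes c).symm
  let dd : D → (Cm ⊗[D] Ω[D⁄k]) := fun d => (1 : Cm) ⊗ₜ[D] KaehlerDifferential.D k D d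
  have hMk : ∀ (c : k) (z : (Cm ⊗[D] Ω[D⁄k])), c • z = algebraMap k Cm c • z := fun c z => (algebraMap_smul Cm c z).symm
  let θ : T →ₗ[k] (Cm ⊗[D] Ω[D⁄k]) := TensorProduct.lift (LinearMap.mk₂ k (fun f d => algebraMap R Cm f • dd d)
    (fun a b d => by rw [map_add, add_smul])
    (fun c a d => by rw [Algebra.smul_def, map_mul, mul_smul, ← IsScalarTower.algebraMap_apply, ← hMk])
    (fun a d e => by simp only [dd, map_add, TensorProduct.tmul_add, smul_add])
    (fun c a d => by simp only [dd, Derivation.map_smul, TensorProduct.tmul_smul, smul_comm c]))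
  have hθ : ∀ f d, θ (f ⊗ₜ d) = algebraMap R Cm f • dd d := fun f d => rfl
  have hqf : ∀ f : R, q (f ⊗ₜ[k] (1 : D)) = algebraMap R Cm f := fun f => q.commutes f
  have hqd : ∀ (f : R) (d : D), q (f ⊗ₜ[k] d) = algebraMap R Cm f * ι d := fun f d => by
    rw [show f ⊗ₜ[k] d = (f ⊗ₜ[k] (1 : D)) * ((1 : R) ⊗ₜ[k] d) by simp, map_mul, hqf]
    rfl
  have hθmul : ∀ (d : D) (w : T), θ (((1 : R) ⊗ₜ[k] d) * w) = ι d • θ w + q w • dd d := by
    intro d w
    induction w using TensorProduct.induction_on with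
    | zero => simp
    | add a b ha hb =>
      rw [mul_add, map_add, ha, hb, map_add, map_add, smul_add, add_smul]
      abel
    | tmul f e =>
      rw [Algebra.TensorProduct.tmul_mul_tmul, one_mul, hθ, hθ, hqd]
      show algebraMap R Cm f • ((1 : Cm) ⊗ₜ[D] KaehlerDifferential.D k D (d * e)) = _
      rw [Derivation.leibniz, TensorProduct.tmul_add, TensorProduct.tmul_smul, TensorProduct.tmul_smul,
        ← algebraMap_smul Cm d, ← algebraMap_smul Cm e, smul_add, smul_smul, smul_smul, smul_smul,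
        mul_comm (algebraMap R Cm f) (algebraMap D Cm d)]
      rfl
  let v : Ω[D⁄k] →ₗ[D] (Cm ⊗[D] Ω[D⁄k]) :=
    { toFun := fun ω => θ (u ω)
      map_add' := fun a b => by rw [hadd, map_add]
      map_smul' := fun d ω => by
        rw [hsmul, hθmul, hqu, zero_smul, add_zero, RingHom.id_apply, ← algebraMap_smul Cm d]
        rfl }
  let E : (Cm ⊗[D] Ω[D⁄k]) →ₗ[Cm] (Cm ⊗[D] Ω[D⁄k]) := v.liftBaseChange Cm
  have hE : ∀ ω, E ((1 : Cm) ⊗ₜ[D] ω) = θ (u ω) := fun ω => by
    show v.liftBaseChange Cm ((1 : Cm) ⊗ₜ[D] ω) = _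
    rw [LinearMap.liftBaseChange_tmul, one_smul]
    rfl
  let mm := IsLocalRing.maximalIdeal Cm
  have hmod : ∀ w : T, θ w - (1 : Cm) ⊗ₜ[D] dRight φ w ∈ mm • (⊤ : Submodule Cm (Cm ⊗[D] Ω[D⁄k])) := by
    intro w
    induction w using TensorProduct.induction_on with
    | zero => simp
    | add a b ha hb =>
      rw [map_add, map_add, TensorProduct.tmul_add, add_sub_add_comm]
      exact add_mem ha hb
    | tmul f d =>
      rw [hθ, dRight_tmul, TensorProduct.tmul_smul, ← algebraMap_smul Cm (φ f)]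
      have h := (IsLocalization.AtPrime.to_map_mem_maximal_iff Cm m _).2 (hm f)
      rw [map_sub, map_sub] at h
      have h2 : algebraMap R Cm f - ι (φ f) ∈ mm := by
        rw [← hqf]
        exact h
      have h3 := Submodule.smul_mem_smul h2 (show dd d ∈ (⊤ : Submodule Cm (Cm ⊗[D] Ω[D⁄k])) from trivial)
      rw [sub_smul] at h3
      exact h3
  haveI : Module.Finite Cm (Cm ⊗[D] Ω[D⁄k]) := inferInstance
  have hEs : Function.Surjective E := by
    rw [← LinearMap.range_eq_top]
    refine eq_top_iff.2 (Submodule.le_of_le_smul_of_le_jacobson_bot (R := Cm) (M := Cm ⊗[D] Ω[D⁄k]) (I := mm) Module.Finite.fg_top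
      (IsLocalRing.jacobson_eq_maximalIdeal ⊥ bot_ne_top).ge ?_)
    intro z _
    induction z using TensorProduct.induction_on with
    | zero => exact zero_mem _
    | add a b ha hb => exact add_mem (ha trivial) (hb trivial)
    | tmul c ω =>
      have h1 : E ((1 : Cm) ⊗ₜ[D] ω) - (1 : Cm) ⊗ₜ[D] ω ∈ mm • (⊤ : Submodule Cm (Cm ⊗[D] Ω[D⁄k])) := by
        have := hmod (u ω)
        rwa [hu, ← hE] at this
      have h2 : (1 : Cm) ⊗ₜ[D] ω ∈ LinearMap.range E ⊔ mm • (⊤ : Submodule Cm (Cm ⊗[D] Ω[D⁄k])) := by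
        have := sub_mem (Submodule.mem_sup_left (T := mm • (⊤ : Submodule Cm (Cm ⊗[D] Ω[D⁄k]))) (LinearMap.mem_range_self E ((1 : Cm) ⊗ₜ[D] ω)))
          (Submodule.mem_sup_right (S := LinearMap.range E) h1)
        rwa [sub_sub_cancel] at this
      rw [show c ⊗ₜ[D] ω = c • ((1 : Cm) ⊗ₜ[D] ω) by rw [TensorProduct.smul_tmul', smul_eq_mul, mul_one]]
      exact Submodule.smul_mem _ c h2
  haveI : OrzechProperty Cm := CommRing.orzechProperty Cm
  let Ee := LinearEquiv.ofBijective E ⟨OrzechProperty.injective_of_surjective_endomorphism E hEs, hEs⟩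
  rw [Algebra.FormallyEtale.iff_comp_bijective]
  intro B _ _ I hI
  letI : Algebra k B := ((algebraMap R B).comp (algebraMap k R)).toAlgebra
  haveI : IsScalarTower k R B := IsScalarTower.of_algebraMap_eq fun _ => rfl
  have hII : ∀ a ∈ I, ∀ b ∈ I, a * b = 0 := fun a ha b hb => by
    have := Ideal.mul_mem_mul ha hb
    rwa [← sq, hI, Ideal.mem_bot] at this
  letI modBI : Module (B ⧸ I) I := Module.IsTorsionBySet.module
    (fun (i : I) (a : (I : Set B)) => Subtype.ext (hII a a.2 i i.2))
  have hsm : ∀ (b : B) (i : I), ((Ideal.Quotient.mk I b) • i : I) = b • i := fun b i => rfl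
  constructor
  · intro h1 h2 h12
    letI : Module Cm I := Module.compHom I ((Ideal.Quotient.mkₐ R I).comp h1).toRingHom
    have hsc : ∀ (c : Cm) (i : I), ((c • i : I) : B) = h1 c * i := fun c i => rfl
    have hd : ∀ c, h1 c - h2 c ∈ I := fun c => Ideal.Quotient.eq.1 (AlgHom.congr_fun h12 c)
    letI : Module D I := Module.compHom I (algebraMap D Cm)
    haveI : IsScalarTower D Cm I := ⟨fun d c i => by
      rw [Algebra.smul_def, mul_smul]; rfl⟩
    have hdc : ∀ (d : D) (i : I), ((d • i : I) : B) = h1 (ι d) * i := fun d i => rfl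
    haveI : IsScalarTower k D I := ⟨fun c d i => Subtype.ext (by
      rw [hdc, map_smul, AlgHom.map_smul_of_tower h1, SetLike.val_smul_of_tower, hdc, smul_mul_assoc])⟩
    let δl : D →ₗ[k] I :=
      { toFun := fun d => ⟨h1 (ι d) - h2 (ι d), hd _⟩
        map_add' := fun a b => Subtype.ext (by simp only [map_add, Submodule.coe_add]; ring)
        map_smul' := fun c d => Subtype.ext (by
          simp only [map_smul, RingHom.id_apply, SetLike.val_smul_of_tower, AlgHom.map_smul_of_tower h1,
            AlgHom.map_smul_of_tower h2, smul_sub]) }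
    let δ : Derivation k D I := Derivation.mk' δl fun a b => Subtype.ext (by
      rw [Submodule.coe_add, hdc, hdc]
      show h1 (ι (a * b)) - h2 (ι (a * b)) = h1 (ι a) * (h1 (ι b) - h2 (ι b)) + h1 (ι b) * (h1 (ι a) - h2 (ι a))
      have := hII _ (hd (ι a)) _ (hd (ι b))
      simp only [map_mul]
      linear_combination -this)
    let Φ : (Cm ⊗[D] Ω[D⁄k]) →ₗ[Cm] I := δ.liftKaehlerDifferential.liftBaseChange Cm
    have hΦd : ∀ d, Φ (dd d) = ⟨h1 (ι d) - h2 (ι d), hd _⟩ := fun d => by
      show δ.liftKaehlerDifferential.liftBaseChange Cm ((1 : Cm) ⊗ₜ[D] KaehlerDifferential.D k D d) = _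
      rw [LinearMap.liftBaseChange_tmul, one_smul, Derivation.liftKaehlerDifferential_comp_D]
      rfl
    have hkey : ∀ w : T, ((Φ (θ w) : I) : B) = h1 (q w) - h2 (q w) := by
      intro w
      induction w using TensorProduct.induction_on with
      | zero => simp
      | add a b ha hb => simp only [map_add, Submodule.coe_add, ha, hb]; ring
      | tmul f d =>
        rw [hθ, map_smul, hsc, hΦd, hqd]
        simp only [map_mul, AlgHom.commutes]
        ring
    have hΦ0 : Φ = 0 := by
      have hΦE : ∀ z, Φ (E z) = 0 := fun z => by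
        induction z using TensorProduct.induction_on with
        | zero => simp
        | add a b ha hb => simp only [map_add, ha, hb, add_zero]
        | tmul c ω =>
          rw [show c ⊗ₜ[D] ω = c • ((1 : Cm) ⊗ₜ[D] ω) by rw [TensorProduct.smul_tmul', smul_eq_mul, mul_one],
            map_smul, map_smul, hE, show Φ (θ (u ω)) = 0 from Subtype.ext (by rw [hkey, hqu]; simp), smul_zero]
      exact LinearMap.ext fun z => by obtain ⟨y, rfl⟩ := hEs z; exact hΦE y
    refine IsLocalization.algHom_ext m.primeCompl (Ideal.Quotient.algHom_ext R (AlgHom.ext fun w => ?_))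
    show h1 (q w) = h2 (q w)
    rw [← sub_eq_zero, ← hkey, hΦ0]
    rfl
  · intro hb
    letI : Module Cm I := Module.compHom I hb.toRingHom
    have hsc : ∀ (c : Cm) (b : B), Ideal.Quotient.mk I b = hb c → ∀ i : I, ((c • i : I) : B) = b * i :=
      fun c b h i => by rw [show c • i = hb c • i from rfl, ← h, hsm]; rfl
    let hbι : D →ₐ[k] B ⧸ I := (hb.restrictScalars k).comp ι
    have hIn : IsNilpotent I := ⟨2, hI⟩
    let h0 : D →ₐ[k] B := Algebra.FormallySmooth.lift I hIn hbι
    have hh0 : ∀ d, Ideal.Quotient.mk I (h0 d) = hb (ι d) := fun d => Algebra.FormallySmooth.mk_lift I hIn hbι d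
    let H : T →ₐ[R] B := Algebra.TensorProduct.lift (Algebra.ofId R B) h0 (fun _ _ => Commute.all _ _)
    have hHmk : ∀ w, Ideal.Quotient.mk I (H w) = hb (q w) := by
      intro w
      induction w using TensorProduct.induction_on with
      | zero => simp
      | add a b ha hb' => simp only [map_add, ha, hb']
      | tmul f d =>
        rw [hqd, map_mul hb, AlgHom.commutes, ← hh0]
        show Ideal.Quotient.mk I (Algebra.TensorProduct.lift (Algebra.ofId R B) h0 _ (f ⊗ₜ[k] d)) = _
        rw [Algebra.TensorProduct.lift_tmul, map_mul, Algebra.ofId_apply, Ideal.Quotient.mk_algebraMap]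
    have hHu : ∀ ω, H (u ω) ∈ I := fun ω => by
      rw [← Ideal.Quotient.eq_zero_iff_mem, hHmk, hqu, map_zero]
    letI : Module D I := Module.compHom I (algebraMap D Cm)
    haveI : IsScalarTower D Cm I := ⟨fun d c i => by
      rw [Algebra.smul_def, mul_smul]; rfl⟩
    have hdc : ∀ (d : D) (i : I), ((d • i : I) : B) = h0 d * i := fun d i => hsc (ι d) (h0 d) (hh0 d) i
    let G : Ω[D⁄k] →ₗ[D] I :=
      { toFun := fun ω => ⟨H (u ω), hHu ω⟩
        map_add' := fun a b => Subtype.ext (by simp [hadd])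
        map_smul' := fun d ω => Subtype.ext (by
          rw [RingHom.id_apply, hdc]
          show H (u (d • ω)) = h0 d * H (u ω)
          rw [hsmul, map_mul]
          rw [show H ((1 : R) ⊗ₜ[k] d) = Algebra.ofId R B 1 * h0 d from Algebra.TensorProduct.lift_tmul _ _ _ _ _,
            map_one, one_mul]) }
    let Φ : (Cm ⊗[D] Ω[D⁄k]) →ₗ[Cm] I := -((G.liftBaseChange Cm).comp Ee.symm.toLinearMap)
    have hΦE : ∀ ω, Φ (θ (u ω)) = -G ω := fun ω => by
      rw [← hE]
      simp only [Φ, LinearMap.neg_apply, LinearMap.comp_apply, LinearEquiv.coe_coe]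
      rw [show E ((1 : Cm) ⊗ₜ[D] ω) = Ee ((1 : Cm) ⊗ₜ[D] ω) from rfl, LinearEquiv.symm_apply_apply,
        LinearMap.liftBaseChange_tmul, one_smul]
    let δ : D → B := fun d => (Φ (dd d) : I)
    have hδmem : ∀ d, δ d ∈ I := fun d => (Φ (dd d)).2
    have hδmul : ∀ a b, δ (a * b) = h0 a * δ b + h0 b * δ a := fun a b => by
      simp only [δ, dd, Derivation.leibniz, TensorProduct.tmul_add, TensorProduct.tmul_smul, map_add,
        Submodule.coe_add]
      rw [← algebraMap_smul Cm a, ← algebraMap_smul Cm b, map_smul, map_smul, algebraMap_smul, algebraMap_smul,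
        hdc, hdc]
    have hδalg : ∀ c : k, δ (algebraMap k D c) = 0 := fun c => by
      simp only [δ, dd, Derivation.map_algebraMap, TensorProduct.tmul_zero, map_zero]
      rfl
    let h : D →ₐ[k] B :=
      { toFun := fun d => h0 d + δ d
        map_one' := by
          show h0 1 + δ 1 = 1
          rw [← map_one (algebraMap k D), hδalg, map_one, map_one, add_zero]
        map_mul' := fun a b => by
          show h0 (a * b) + δ (a * b) = (h0 a + δ a) * (h0 b + δ b)
          rw [hδmul, map_mul]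
          linear_combination -(hII _ (hδmem a) _ (hδmem b))
        map_zero' := by
          show h0 0 + δ 0 = 0
          rw [← map_zero (algebraMap k D), hδalg, map_zero, map_zero, add_zero]
        map_add' := fun a b => by
          show h0 (a + b) + δ (a + b) = (h0 a + δ a) + (h0 b + δ b)
          simp only [δ, dd, map_add, TensorProduct.tmul_add, Submodule.coe_add]
          ring
        commutes' := fun c => by
          show h0 (algebraMap k D c) + δ (algebraMap k D c) = _
          rw [hδalg, add_zero, AlgHom.commutes] }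
    let H' : T →ₐ[R] B := Algebra.TensorProduct.lift (Algebra.ofId R B) h (fun _ _ => Commute.all _ _)
    have hH' : ∀ w, H' w = H w + (Φ (θ w) : I) := by
      intro w
      induction w using TensorProduct.induction_on with
      | zero => simp
      | add a b ha hb' => simp only [map_add, ha, hb', Submodule.coe_add]; ring
      | tmul f d =>
        rw [hθ, map_smul, hsc (algebraMap R Cm f) (algebraMap R B f) (by
          rw [AlgHom.commutes, Ideal.Quotient.mk_algebraMap])]
        rw [show H' (f ⊗ₜ[k] d) = algebraMap R B f * h d from Algebra.TensorProduct.lift_tmul _ _ _ _ _,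
          show H (f ⊗ₜ[k] d) = algebraMap R B f * h0 d from Algebra.TensorProduct.lift_tmul _ _ _ _ _]
        show algebraMap R B f * (h0 d + δ d) = algebraMap R B f * h0 d + algebraMap R B f * δ d
        ring
    have hH'u : ∀ a ∈ K, H' a = 0 := fun a ha => by
      rw [hK] at ha
      refine (Ideal.span_le (I := RingHom.ker H')).2 ?_ ha
      rintro _ ⟨ω, rfl⟩
      show H' (u ω) = 0
      rw [hH', hΦE]
      show H (u ω) + -(G ω : B) = 0
      exact add_neg_cancel _
    let H'' : T ⧸ K →ₐ[R] B := Ideal.Quotient.liftₐ K H' hH'u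
    have hH''mk : ∀ c, Ideal.Quotient.mk I (H'' c) = hb (algebraMap (T ⧸ K) Cm c) := fun c => by
      obtain ⟨w, rfl⟩ := Ideal.Quotient.mk_surjective c
      show Ideal.Quotient.mk I (H' w) = hb (q w)
      rw [hH', map_add, hHmk, Ideal.Quotient.eq_zero_iff_mem.2 (Φ (θ w)).2, add_zero]
    have hunit : ∀ s : m.primeCompl, IsUnit (H'' s) := fun s => by
      have := (IsLocalization.map_units Cm s).map hb
      rw [← hH''mk] at this
      obtain ⟨c, hc⟩ := this.exists_right_inv
      obtain ⟨c, rfl⟩ := Ideal.Quotient.mk_surjective c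
      rw [← map_mul, ← map_one (Ideal.Quotient.mk I), Ideal.Quotient.eq] at hc
      refine IsUnit.of_mul_eq_one (c * (1 - (H'' s * c - 1))) ?_
      linear_combination -(hII _ hc _ hc)
    refine ⟨IsLocalization.liftAlgHom (M := m.primeCompl) (f := H'') hunit,
      IsLocalization.algHom_ext m.primeCompl (AlgHom.ext fun c => ?_)⟩
    show Ideal.Quotient.mk I (IsLocalization.liftAlgHom (M := m.primeCompl) (f := H'') hunit (algebraMap _ Cm c)) = _
    rw [IsLocalization.liftAlgHom_apply, IsLocalization.lift_eq]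
    exact hH''mk c

theorem isEtaleAt_quot_of_sections [Algebra.FormallySmooth k D] [Algebra.EssFiniteType k D] (φ : R →ₐ[k] D)
    (u : Ω[D⁄k] → R ⊗[k] D) (hadd : ∀ a b, u (a + b) = u a + u b)
    (hsmul : ∀ (d : D) (ω : Ω[D⁄k]), u (d • ω) = ((1 : R) ⊗ₜ[k] d) * u ω)
    (hu : ∀ ω, dRight φ (u ω) = ω) (K : Ideal (R ⊗[k] D)) (hK : K = Ideal.span (Set.range u))
    (m : Ideal ((R ⊗[k] D) ⧸ K)) [m.IsPrime]
    (hm : ∀ f : R, Ideal.Quotient.mk K (f ⊗ₜ[k] (1 : D) - (1 : R) ⊗ₜ[k] φ f) ∈ m) :
    Algebra.IsEtaleAt R m :=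
  formallyEtale_of_sections φ u hadd hsmul hu K hK m hm (Localization.AtPrime m)

end Groth.Agent.LunaEt
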