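import Groth.Agent.LunaEt.Diag
import Groth.Agent.LunaEt.Slice

/-!
The equivariant slice equations of a closed smooth invariant subvariety.
-/
set_option autoImplicit false
set_option linter.unusedSectionVars false
set_option maxHeartbeats 1000000
set_option synthInstance.maxHeartbeats 200000
universe u
open TensorProduct Coalgebra WithConv
noncomputable section

namespace Groth.Agent.LunaEt

variable {k : Type u} [Field k] {A : Type u} [CommRing A] [HopfAlgebra k A]
variable {R D : Type u} [CommRing R] [Algebra k R] [HopfRep.Comod k A R] [GLin.IsCoactAlg k A R]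
variable [CommRing D] [Algebra k D] [HopfRep.Comod k A D] [GLin.IsCoactAlg k A D]

theorem map_transl (φ : R →ₐ[k] D) (hφ : ∀ f, HopfRep.Comod.coact (k := k) (A := A) (φ f) =
    Algebra.TensorProduct.map φ (AlgHom.id k A) (HopfRep.Comod.coact (k := k) (A := A) f))
    (g : A →ₐ[k] k) (f : R) : φ (transl g f) = transl g (φ f) := by
  rw [transl_apply, transl_apply, coef_map φ hφ]

variable (φ : R →ₐ[k] D)

/-- the projection to the second factor along `φ` -/
def piMap : R ⊗[k] D →ₐ[k] D :=
  Algebra.TensorProduct.lift φ (AlgHom.id k D) (fun _ _ => Commute.all _ _)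

@[simp] theorem piMap_tmul (f : R) (d : D) : piMap φ (f ⊗ₜ d) = φ f * d :=
  Algebra.TensorProduct.lift_tmul _ _ _ _ _

/-- `w ↦ w - 1 ⊗ π w` -/
def mu : R ⊗[k] D →ₗ[k] R ⊗[k] D :=
  LinearMap.id - (Algebra.TensorProduct.includeRight : D →ₐ[k] R ⊗[k] D).toLinearMap ∘ₗ (piMap φ).toLinearMap

theorem mu_apply (w : R ⊗[k] D) : mu φ w = w - (1 : R) ⊗ₜ[k] piMap φ w := rfl

theorem piMap_mu (w : R ⊗[k] D) : piMap φ (mu φ w) = 0 := by simp [mu_apply]

theorem mu_mul (d : D) (w : R ⊗[k] D) :
    mu φ (((1 : R) ⊗ₜ[k] d) * w) = ((1 : R) ⊗ₜ[k] d) * mu φ w := by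
  simp only [mu_apply, map_mul, piMap_tmul, map_one, one_mul, mul_sub, Algebra.TensorProduct.tmul_mul_tmul]

/-- `f ⊗ d ↦ d • D (φ f)` -/
def dLeft : R ⊗[k] D →ₗ[k] Ω[D⁄k] :=
  TensorProduct.lift (LinearMap.mk₂ k (fun f d => d • KaehlerDifferential.D k D (φ f))
    (fun a b d => by rw [map_add, map_add, smul_add]) (fun c a d => by rw [map_smul, Derivation.map_smul, smul_comm])
    (fun a d e => by rw [add_smul]) (fun c a d => by rw [smul_assoc]))

@[simp] theorem dLeft_tmul (f : R) (d : D) : dLeft φ (f ⊗ₜ d) = d • KaehlerDifferential.D k D (φ f) := rfl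

theorem dLeft_mul (d : D) (w : R ⊗[k] D) : dLeft φ (((1 : R) ⊗ₜ[k] d) * w) = d • dLeft φ w := by
  induction w using TensorProduct.induction_on with
  | zero => simp
  | add a b ha hb => simp only [mul_add, map_add, ha, hb, smul_add]
  | tmul f e => simp [smul_smul]

theorem dRight_add_dLeft (w : R ⊗[k] D) :
    dRight φ w + dLeft φ w = KaehlerDifferential.D k D (piMap φ w) := by
  induction w using TensorProduct.induction_on with
  | zero => simp
  | add a b ha hb => simp only [map_add, ← ha, ← hb]; abel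
  | tmul f e => simp

theorem dLeft_mu (w : R ⊗[k] D) : dLeft φ (mu φ w) = dLeft φ w := by simp [mu_apply]

variable (k D) in
/-- the class of an element of the diagonal ideal as a differential -/
def cot : KaehlerDifferential.ideal k D →+ Ω[D⁄k] := (KaehlerDifferential.ideal k D).toCotangent.toAddMonoidHom

theorem cot_eq_zero (x : KaehlerDifferential.ideal k D) :
    cot k D x = 0 ↔ (x : D ⊗[k] D) ∈ KaehlerDifferential.ideal k D ^ 2 :=
  Ideal.toCotangent_eq_zero _ x

theorem cot_smul (y : D ⊗[k] D) (x : KaehlerDifferential.ideal k D) : cot k D (y • x) = y • cot k D x :=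
  map_smul (KaehlerDifferential.ideal k D).toCotangent y x

theorem cot_diag (a : D) :
    cot k D ⟨_, KaehlerDifferential.one_smul_sub_smul_one_mem_ideal k a⟩ = KaehlerDifferential.D k D a := rfl

/-- The differential read in `J/J²` for the diagonal ideal `J`. -/
theorem toCotangent_mu (w : R ⊗[k] D) :
    ∃ h : Algebra.TensorProduct.map φ (AlgHom.id k D) (mu φ w) ∈ KaehlerDifferential.ideal k D,
      cot k D ⟨_, h⟩ = -dLeft φ w := by
  induction w using TensorProduct.induction_on with
  | zero => exact ⟨by simp, (congrArg (cot k D) (Subtype.ext (by simp) : _ = (0 : KaehlerDifferential.ideal k D))).trans (by simp)⟩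
  | add a b ha hb =>
    obtain ⟨h, e⟩ := ha
    obtain ⟨h', e'⟩ := hb
    refine ⟨by rw [map_add, map_add]; exact add_mem h h', ?_⟩
    rw [map_add (dLeft φ), neg_add, ← e, ← e']
    refine (congrArg _ (Subtype.ext ?_)).trans (map_add (cot k D) _ _)
    simp
  | tmul f d =>
    have hmem := KaehlerDifferential.one_smul_sub_smul_one_mem_ideal k (φ f)
    have e : Algebra.TensorProduct.map φ (AlgHom.id k D) (mu φ (f ⊗ₜ d)) =
        -(((1 : D) ⊗ₜ[k] d) * ((1 : D) ⊗ₜ[k] φ f - φ f ⊗ₜ[k] (1 : D))) := by
      simp [mu_apply, mul_sub, mul_comm d]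
    refine ⟨by rw [e]; exact neg_mem (Ideal.mul_mem_left _ _ hmem), ?_⟩
    rw [dLeft_tmul]
    have e2 : (⟨_, (by rw [e]; exact neg_mem (Ideal.mul_mem_left _ _ hmem) :
        Algebra.TensorProduct.map φ (AlgHom.id k D) (mu φ (f ⊗ₜ d)) ∈ KaehlerDifferential.ideal k D)⟩ :
          KaehlerDifferential.ideal k D) = -(((1 : D) ⊗ₜ[k] d) • ⟨_, hmem⟩) := Subtype.ext e
    rw [e2, map_neg, cot_smul, cot_diag, ← algebraMap_smul (D ⊗[k] D) d (KaehlerDifferential.D k D (φ f)),
      Algebra.TensorProduct.algebraMap_apply, Algebra.algebraMap_self, RingHom.id_apply, neg_inj, ← sub_eq_zero,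
      ← sub_smul, ← cot_diag, ← cot_smul, cot_eq_zero, sq]
    exact Ideal.mul_mem_mul (KaehlerDifferential.one_smul_sub_smul_one_mem_ideal k d) hmem

variable {φ}
variable (hφ : ∀ f, HopfRep.Comod.coact (k := k) (A := A) (φ f) =
    Algebra.TensorProduct.map φ (AlgHom.id k A) (HopfRep.Comod.coact (k := k) (A := A) f))

attribute [local instance] diagComod

include hφ in
theorem piMap_transl (g : A →ₐ[k] k) (w : R ⊗[k] D) : piMap φ (transl g w) = transl g (piMap φ w) := by
  induction w using TensorProduct.induction_on with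
  | zero => simp
  | add a b ha hb => simp only [map_add, ha, hb]
  | tmul f d => rw [transl_tmul, piMap_tmul, piMap_tmul, map_mul, map_transl φ hφ]

include hφ in
theorem mu_transl (g : A →ₐ[k] k) (w : R ⊗[k] D) : mu φ (transl g w) = transl g (mu φ w) := by
  rw [mu_apply, mu_apply, map_sub, transl_tmul, map_one, piMap_transl hφ]

include hφ in
theorem dLeft_transl_eq_zero (g : A →ₐ[k] k) (w : R ⊗[k] D) (hw : dLeft φ w = 0) :
    dLeft φ (transl g w) = 0 := by
  let σ : D ⊗[k] D →ₐ[k] D ⊗[k] D := Algebra.TensorProduct.map (transl g) (transl g)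
  have hσ : (KaehlerDifferential.ideal k D).map σ ≤ KaehlerDifferential.ideal k D := by
    rw [Ideal.map_le_iff_le_comap]
    intro z hz
    have e : ∀ z, Algebra.TensorProduct.lmul' k (S := D) (σ z) = transl g (Algebra.TensorProduct.lmul' k (S := D) z) := by
      intro z
      induction z using TensorProduct.induction_on with
      | zero => simp
      | add a b ha hb => simp only [map_add, ha, hb]
      | tmul a b => simp [σ]
    show Algebra.TensorProduct.lmul' k (S := D) (σ z) = 0
    rw [e, show Algebra.TensorProduct.lmul' k (S := D) z = 0 from hz, map_zero]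
  obtain ⟨h, e⟩ := toCotangent_mu φ w
  obtain ⟨h', e'⟩ := toCotangent_mu φ (transl g w)
  rw [hw, neg_zero, cot_eq_zero] at e
  rw [← neg_eq_zero, ← e', cot_eq_zero]
  have hc : Algebra.TensorProduct.map φ (AlgHom.id k D) (mu φ (transl g w)) =
      σ (Algebra.TensorProduct.map φ (AlgHom.id k D) (mu φ w)) := by
    rw [mu_transl hφ]
    generalize mu φ w = t
    induction t using TensorProduct.induction_on with
    | zero => simp
    | add a b ha hb => simp only [map_add, ha, hb]
    | tmul a b => simp [σ, transl_tmul, map_transl φ hφ]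
  show Algebra.TensorProduct.map φ (AlgHom.id k D) (mu φ (transl g w)) ∈ KaehlerDifferential.ideal k D ^ 2
  rw [hc]
  have := Ideal.mem_map_of_mem σ e
  rw [Ideal.map_pow] at this
  exact Ideal.pow_right_mono hσ 2 this

variable [IsAlgClosed k] [CharZero k] [Algebra.FiniteType k A] [IsReduced A]

/-- the inverse of a point is its composite with the antipode -/
theorem toConv_comp_antipode (h : A →ₐ[k] k) :
    toConv (h.comp (HopfAlgebra.antipodeAlgHom k A)) = (toConv h)⁻¹ :=
  eq_inv_of_mul_eq_one_right (conv_antipode h).1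


theorem cR_map_points {V W : Type u} [AddCommGroup V] [Module k V] [AddCommGroup W] [Module k W]
    (s : V →ₗ[k] W) (t' : A →ₗ[k] A) (f : A →ₗ[k] k) (t : V ⊗[k] A) :
    Comod.cR f (TensorProduct.map s t' t) = s (Comod.cR (f ∘ₗ t') t) := by
  induction t using TensorProduct.induction_on with
  | zero => simp
  | add a b ha hb => simp only [map_add, ha, hb]
  | tmul a b => simp

include hφ in
/-- Equivariant semilinear equations with prescribed differentials. -/
theorem exists_equations (r : Comod.Integral k A) (hsurj : Function.Surjective φ)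
    [Module.Projective D Ω[D⁄k]] :
    ∃ u : Ω[D⁄k] → R ⊗[k] D, (∀ a b, u (a + b) = u a + u b) ∧
      (∀ (d : D) (ω : Ω[D⁄k]), u (d • ω) = ((1 : R) ⊗ₜ[k] d) * u ω) ∧
      (∀ ω, dRight φ (u ω) = ω) ∧ (∀ ω, piMap φ (u ω) = 0) ∧
      (∀ (g : A →ₐ[k] k) (ω : Ω[D⁄k]), ∃ ω', transl g (u ω) = u ω') := by
  let β : D ⊗[k] R →ₗ[D] Ω[D⁄k] :=
    ((KaehlerDifferential.D k D).toLinearMap ∘ₗ φ.toLinearMap).liftBaseChange D
  have hβ : Function.Surjective β := by
    rw [← LinearMap.range_eq_top, eq_top_iff, ← KaehlerDifferential.span_range_derivation, Submodule.span_le]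
    rintro _ ⟨d, rfl⟩
    obtain ⟨f, rfl⟩ := hsurj d
    exact ⟨(1 : D) ⊗ₜ f, by simp [β]⟩
  obtain ⟨s', hs'⟩ := Module.projective_lifting_property β LinearMap.id hβ
  let s : Ω[D⁄k] →ₗ[k] R ⊗[k] D := (TensorProduct.comm k D R).toLinearMap ∘ₗ s'.restrictScalars k
  have hδs : ∀ ω, dLeft φ (s ω) = ω := fun ω => by
    refine Eq.trans ?_ (LinearMap.congr_fun hs' ω)
    show dLeft φ (TensorProduct.comm k D R (s' ω)) = β (s' ω)
    generalize s' ω = z
    induction z using TensorProduct.induction_on with
    | zero => simp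
    | add a b ha hb => simp only [map_add, ha, hb]
    | tmul a b => simp [β]
  have hsmul : ∀ (d : D) ω, s (d • ω) = ((1 : R) ⊗ₜ[k] d) * s ω := fun d ω => by
    show TensorProduct.comm k D R (s' (d • ω)) = ((1 : R) ⊗ₜ[k] d) * TensorProduct.comm k D R (s' ω)
    rw [map_smul s']
    generalize s' ω = z
    induction z using TensorProduct.induction_on with
    | zero => simp
    | add a b ha hb => simp only [smul_add, map_add, mul_add, ha, hb]
    | tmul a b => simp [TensorProduct.smul_tmul', mul_comm]
  let N : Submodule k (R ⊗[k] D) := LinearMap.ker (dLeft φ)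
  have hN : ∀ (g : A →ₐ[k] k) w, w ∈ N → transl g w ∈ N := fun g w hw => dLeft_transl_eq_zero hφ g w hw
  let p : R ⊗[k] D →ₗ[k] R ⊗[k] D := LinearMap.id - s ∘ₗ dLeft φ
  have hpN : ∀ w, p w ∈ N := fun w => by simp [N, p, hδs]
  have hpfix : ∀ w ∈ N, p w = w := fun w hw => by simp [p, show dLeft φ w = 0 from hw]
  have hpmul : ∀ (d : D) w, p (((1 : R) ⊗ₜ[k] d) * w) = ((1 : R) ⊗ₜ[k] d) * p w := fun d w => by
    simp [p, dLeft_mul, hsmul, mul_sub]
  let F : R ⊗[k] D →ₗ[k] (R ⊗[k] D) ⊗[k] A :=
    GLinFree.shear A p ∘ₗ HopfRep.Comod.coact (k := k) (A := A)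
  have hev : ∀ (h : A →ₐ[k] k) w, Comod.cR h.toLinearMap (F w) = transl h (p (transl ((toConv h)⁻¹).ofConv w)) := by
    intro h w
    rw [← toConv_comp_antipode, ofConv_toConv, transl_apply (h.comp _), coef_apply]
    show Comod.cR h.toLinearMap (GLinFree.shear A p (GLin.coactAlgHom k A _ w)) = _
    generalize GLin.coactAlgHom k A (R ⊗[k] D) w = t
    induction t using TensorProduct.induction_on with
    | zero => simp
    | add a b ha hb => simp only [map_add, ha, hb]
    | tmul m a =>
      rw [GLinFree.shear_tmul, Comod.cR_tmul, map_smul, map_smul, transl_apply, coef_apply]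
      generalize GLin.coactAlgHom k A (R ⊗[k] D) (p m) = t
      induction t using TensorProduct.induction_on with
      | zero => simp
      | add a b ha hb => simp only [add_mul, map_add, smul_add, ha, hb]
      | tmul y z =>
        simp [Algebra.TensorProduct.tmul_mul_tmul, smul_smul, mul_comm]
  let e : R ⊗[k] D →ₗ[k] R ⊗[k] D := Comod.cR r.toFun ∘ₗ F
  have heN : ∀ w, e w ∈ N := fun w => cR_mem_of_points (fun h => by rw [hev]; exact hN h _ (hpN _)) _
  have hefix : ∀ w ∈ N, e w = w := by
    intro w hw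
    have : F w = w ⊗ₜ[k] (1 : A) := by
      rw [← sub_eq_zero]
      refine tensor_eq_zero_of_points fun h => ?_
      rw [map_sub, hev, hpfix _ (hN _ _ hw), Comod.cR_tmul, show h.toLinearMap (1 : A) = 1 from map_one h, one_smul,
        show transl h = transl (toConv h).ofConv from rfl, transl_transl, mul_inv_cancel, transl_one, sub_self]
    show Comod.cR r.toFun (F w) = w
    rw [this, Comod.cR_tmul, r.one, one_smul]
  have hemul : ∀ (d : D) w, e (((1 : R) ⊗ₜ[k] d) * w) = ((1 : R) ⊗ₜ[k] d) * e w := by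
    intro d w
    have hc : ∀ (f : A →ₗ[k] k) (y : R ⊗[k] D) (t : (R ⊗[k] D) ⊗[k] A),
        Comod.cR f ((y ⊗ₜ[k] (1 : A)) * t) = y * Comod.cR f t := fun f y t => by
      induction t using TensorProduct.induction_on with
      | zero => simp
      | add a b ha hb => simp only [mul_add, map_add, ha, hb]
      | tmul a b => simp
    have : F (((1 : R) ⊗ₜ[k] d) * w) = (((1 : R) ⊗ₜ[k] d) ⊗ₜ[k] (1 : A)) * F w := by
      rw [← sub_eq_zero]
      refine tensor_eq_zero_of_points fun h => ?_
      rw [map_sub, hc, hev, hev, map_mul (transl _), transl_tmul, map_one, hpmul, map_mul (transl h), transl_tmul, map_one,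
        show transl h = transl (R := D) (toConv h).ofConv from rfl, transl_transl, mul_inv_cancel, transl_one, sub_self]
    show Comod.cR r.toFun (F (_ * w)) = _ * Comod.cR r.toFun (F w)
    rw [this, hc]
  have hetr : ∀ (g : A →ₐ[k] k) w, e (transl g w) = transl g (e w) := by
    intro g w
    let τ : A →ₐ[k] A := GLRed.tauL (toConv g)⁻¹
    have hF : F (transl g w) = TensorProduct.map (transl g).toLinearMap τ.toLinearMap (F w) := by
      rw [← sub_eq_zero]
      refine tensor_eq_zero_of_points fun h => ?_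
      have hτ : toConv (h.comp τ) = (toConv g)⁻¹ * toConv h := GLRed.comp_tauL (toConv h) (toConv g)⁻¹
      rw [map_sub, cR_map_points, ← AlgHom.comp_toLinearMap, hev, hev,
        show h.comp τ = ((toConv g)⁻¹ * toConv h).ofConv by rw [← hτ], toConv_ofConv, mul_inv_rev, inv_inv,
        AlgHom.toLinearMap_apply, show transl g = transl (toConv g).ofConv from rfl, transl_transl, transl_transl,
        mul_inv_cancel_left, sub_self]
    have hr : r.toFun ∘ₗ τ.toLinearMap = r.toFun := LinearMap.ext fun a => by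
      show r.toFun (GLRed.tauL _ a) = r.toFun a
      unfold GLRed.tauL
      rw [AlgHom.convMul_apply]
      refine Eq.trans ?_ ((((toConv g)⁻¹).ofConv.commutes (r.toFun a)))
      rw [← r.right a]
      generalize comul (R := k) a = t
      induction t using TensorProduct.induction_on with
      | zero => simp
      | add a b ha hb => simp only [map_add, ha, hb]
      | tmul y z =>
        simp [HopfRedSq.cst]
        rw [← Algebra.smul_def, map_smul, smul_eq_mul, mul_comm]
    show Comod.cR r.toFun (F (transl g w)) = transl g (Comod.cR r.toFun (F w))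
    rw [hF, cR_map_points, hr]
    rfl
  let q : R ⊗[k] D →ₗ[k] R ⊗[k] D := LinearMap.id - e
  refine ⟨fun ω => -mu φ (q (s ω)), fun a b => ?_, fun d ω => ?_, fun ω => ?_, fun ω => ?_, fun g ω => ?_⟩
  · simp only [map_add, neg_add]
  · simp only [q, hsmul, LinearMap.sub_apply, LinearMap.id_apply, hemul, ← mul_sub, mu_mul, mul_neg]
  · have h := dRight_add_dLeft φ (mu φ (q (s ω)))
    rw [piMap_mu, map_zero, dLeft_mu, add_eq_zero_iff_eq_neg] at h
    rw [map_neg, h, neg_neg]
    simp [q, hδs, show dLeft φ (e (s ω)) = 0 from heN _]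
  · rw [map_neg, piMap_mu, neg_zero]
  · let v := transl g (s ω)
    refine ⟨dLeft φ v, ?_⟩
    have hq : q v = q (s (dLeft φ v)) := by
      have h1 := hefix (v - s (dLeft φ v)) (by simp [N, hδs])
      rw [map_sub] at h1
      simp only [q, LinearMap.sub_apply, LinearMap.id_apply]
      linear_combination -h1
    show transl g (-mu φ (q (s ω))) = -mu φ (q (s (dLeft φ v)))
    rw [map_neg, ← mu_transl hφ, ← hq]
    simp only [q, v, LinearMap.sub_apply, LinearMap.id_apply, map_sub, hetr]

end Groth.Agent.LunaEt
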